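import Mathlib
import Cfsg.Agent.H140.OreO.Model

/-!
# Decomposition `g = u⁻ * lev A g₁ * u⁺` of an isometry of the model space with invertible corner
-/

set_option autoImplicit false
set_option linter.unusedSectionVars false

namespace Cfsg.Agent.H140.OreO

open QuadraticMap Cfsg.Agent.LieClassical.OrthCore Cfsg.Agent.LieClassical.OrthTrans Matrix

variable {F V : Type*} [Field F] [AddCommGroup V] [Module F V] {n : ℕ}

/-- The adjoint of `γ : W → V`. -/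
def adj (Q : QuadraticForm F V) (γ : (Fin n → F) →ₗ[F] V) : V →ₗ[F] (Fin n → F) :=
  LinearMap.pi fun i => polarBilin Q (γ (Pi.single i 1))

variable {Q : QuadraticForm F V}

theorem sum_single (a : Fin n → F) : ∑ i, a i • (Pi.single i (1 : F) : Fin n → F) = a := by
  ext j
  simp [Finset.sum_apply, Pi.single_apply]

theorem dot_adj (γ : (Fin n → F) →ₗ[F] V) (a : Fin n → F) (v : V) :
    a ⬝ᵥ adj Q γ v = polar Q (γ a) v := by
  conv_rhs => rw [← sum_single a, map_sum]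
  rw [← polarBilin_apply_apply, map_sum, LinearMap.sum_apply]
  simp only [map_smul, LinearMap.smul_apply, smul_eq_mul]
  rfl

/-- The map `(a, v, b) ↦ (a, v + γ a, b + τ a - γ^* v)`. -/
def umLin (Q : QuadraticForm F V) (γ : (Fin n → F) →ₗ[F] V) (τ : (Fin n → F) →ₗ[F] (Fin n → F)) :
    M F V n →ₗ[F] M F V n :=
  (LinearMap.fst F _ _).prod
    (((LinearMap.fst F V (Fin n → F) ∘ₗ LinearMap.snd F _ _) + γ ∘ₗ LinearMap.fst F _ _).prod
      ((LinearMap.snd F V (Fin n → F) ∘ₗ LinearMap.snd F _ _) + τ ∘ₗ LinearMap.fst F _ _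
        - adj Q γ ∘ₗ (LinearMap.fst F V (Fin n → F) ∘ₗ LinearMap.snd F _ _)))

theorem umLin_apply (γ : (Fin n → F) →ₗ[F] V) (τ : (Fin n → F) →ₗ[F] (Fin n → F)) (x : M F V n) :
    umLin Q γ τ x = (x.1, x.2.1 + γ x.1, x.2.2 + τ x.1 - adj Q γ x.2.1) := rfl

theorem adj_neg (γ : (Fin n → F) →ₗ[F] V) (v : V) : adj Q (-γ) v = - adj Q γ v := by
  ext i
  simp [adj]

/-- The unipotent element `(a, v, b) ↦ (a, v + γ a, b + τ a - γ^* v)`. -/
def um (Q : QuadraticForm F V) (γ : (Fin n → F) →ₗ[F] V) (τ : (Fin n → F) →ₗ[F] (Fin n → F)) :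
    M F V n ≃ₗ[F] M F V n :=
  LinearEquiv.ofLinearMap (umLin Q γ τ) (umLin Q (-γ) (-τ - adj Q γ ∘ₗ γ))
    (by
      apply LinearMap.ext
      intro x
      rw [LinearMap.comp_apply, umLin_apply, umLin_apply]
      simp only [adj_neg, LinearMap.neg_apply, LinearMap.sub_apply, LinearMap.comp_apply, map_add,
        map_neg, LinearMap.id_apply]
      refine Prod.ext rfl (Prod.ext ?_ ?_)
      · simp
      · simp only
        abel)
    (by
      apply LinearMap.ext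
      intro x
      rw [LinearMap.comp_apply, umLin_apply, umLin_apply]
      simp only [adj_neg, LinearMap.neg_apply, LinearMap.sub_apply, LinearMap.comp_apply, map_add,
        map_neg, LinearMap.id_apply]
      refine Prod.ext rfl (Prod.ext ?_ ?_)
      · simp
      · simp only
        abel)

theorem um_apply (γ : (Fin n → F) →ₗ[F] V) (τ : (Fin n → F) →ₗ[F] (Fin n → F)) (x : M F V n) :
    um Q γ τ x = (x.1, x.2.1 + γ x.1, x.2.2 + τ x.1 - adj Q γ x.2.1) := rfl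

theorem um_mem {γ : (Fin n → F) →ₗ[F] V} {τ : (Fin n → F) →ₗ[F] (Fin n → F)}
    (h : ∀ a, a ⬝ᵥ τ a + Q (γ a) = 0) : um Q γ τ ∈ Um n Q := by
  refine ⟨fun x => ?_, fun x => rfl, fun x hx => ?_, fun x hx hx' => ?_⟩
  · rw [um_apply, MQ_apply, MQ_apply', dotProduct_sub, dotProduct_add, dot_adj, Q_add,
      polar_comm Q x.2.1]
    linear_combination h x.1
  · rw [um_apply]
    simp [hx]
  · rw [um_apply, hx, hx']
    obtain ⟨a, v, b⟩ := x
    simp only at hx hx'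
    simp [hx, hx']

/-- An isometry fixing `W` pointwise. -/
theorem fixW [FiniteDimensional F V] {p : M F V n ≃ₗ[F] M F V n} (hp : p ∈ O (MQ n Q))
    (h : ∀ a, p (a, 0, 0) = (a, 0, 0)) :
    ∃ g₁ ∈ O Q, ∃ u ∈ Up n Q, p = lev 1 g₁ * u := by
  have h3 : ∀ x, (p x).2.2 = x.2.2 := by
    intro x
    ext i
    have := polar_map hp x (Pi.single i 1, 0, 0)
    rw [h] at this
    simpa [polar_MQ] using this
  have hQ : ∀ v, Q (p (0, v, 0)).2.1 = Q v := by
    intro v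
    have h1 := mem_O.1 hp (0, v, 0)
    rw [MQ_apply, MQ_apply', h3] at h1
    simpa using h1
  let g0 : V →ₗ[F] V := (LinearMap.fst F V (Fin n → F) ∘ₗ LinearMap.snd F _ _) ∘ₗ
    (p : M F V n →ₗ[F] M F V n) ∘ₗ (LinearMap.inr F _ _ ∘ₗ LinearMap.inl F V (Fin n → F))
  have g0a : ∀ v, g0 v = (p (0, v, 0)).2.1 := fun v => rfl
  have hinj : Function.Injective g0 := by
    rw [← LinearMap.ker_eq_bot, LinearMap.ker_eq_bot']
    intro v hv
    rw [g0a] at hv
    have e1 : p (0, v, 0) = p ((p (0, v, 0)).1, 0, 0) := by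
      rw [h]
      exact Prod.ext rfl (Prod.ext hv (h3 _))
    have := p.injective e1
    have h2 : v = 0 := congrArg (fun x => x.2.1) this
    exact h2
  let g₁ : V ≃ₗ[F] V := LinearEquiv.ofInjectiveEndo g0 hinj
  have g1a : ∀ v, g₁ v = (p (0, v, 0)).2.1 := fun v => rfl
  have hg₁ : g₁ ∈ O Q := fun v => by rw [g1a, hQ]
  refine ⟨g₁, hg₁, (lev 1 g₁)⁻¹ * p, ?_, by rw [mul_inv_cancel_left]⟩
  have e2 : ∀ x : M F V n, (((lev (1 : GL (Fin n) F) g₁)⁻¹ * p) x) =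
      ((p x).1, g₁.symm (p x).2.1, (p x).2.2) := by
    intro x
    rw [← lev_inv, LinearEquiv.mul_apply, lev_apply, inv_one, ti_one]
    simp only [Units.val_one, one_mulVec]
    rfl
  refine ⟨(O (MQ n Q)).mul_mem ((O (MQ n Q)).inv_mem (lev_mem hg₁)) hp, fun x => ?_, fun x hx => ?_,
    fun x hx hx' => ?_⟩
  · rw [e2, h3]
  · rw [e2]
    simp only
    rw [LinearEquiv.symm_apply_eq, g1a]
    have e3 : x = (x.1, 0, 0) + (0, x.2.1, 0) := by
      refine Prod.ext (by simp) (Prod.ext (by simp) (by simp [hx]))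
    have e4 : p x = (x.1, 0, 0) + p (0, x.2.1, 0) := by
      conv_lhs => rw [e3, map_add, h]
    rw [e4]
    simp
  · rw [e2]
    have e3 : x = (x.1, 0, 0) := Prod.ext rfl (Prod.ext hx' hx)
    rw [e3, h]
    simp

/-- **Decomposition.** -/
theorem decomp [FiniteDimensional F V] {g : M F V n ≃ₗ[F] M F V n} (hg : g ∈ O (MQ n Q))
    (A : GL (Fin n) F) (hA : ∀ a, (g (a, 0, 0)).1 = (A : Matrix (Fin n) (Fin n) F) *ᵥ a) :
    ∃ u₁ ∈ Um n Q, ∃ g₁ ∈ O Q, ∃ u₂ ∈ Up n Q, g = u₁ * lev A g₁ * u₂ := by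
  let G0 : (Fin n → F) →ₗ[F] M F V n := (g : M F V n →ₗ[F] M F V n) ∘ₗ
    (LinearMap.inl F (Fin n → F) (V × (Fin n → F))) ∘ₗ
    ((gle A⁻¹ : (Fin n → F) ≃ₗ[F] (Fin n → F)) : (Fin n → F) →ₗ[F] (Fin n → F))
  have G0a : ∀ a, G0 a = g (((A⁻¹ : GL (Fin n) F) : Matrix (Fin n) (Fin n) F) *ᵥ a, 0, 0) :=
    fun a => rfl
  have G1 : ∀ a, (G0 a).1 = a := by
    intro a
    rw [G0a, hA, mulVec_mulVec, ← Units.val_mul, mul_inv_cancel, Units.val_one, one_mulVec]
  let γ : (Fin n → F) →ₗ[F] V := LinearMap.fst F V (Fin n → F) ∘ₗ LinearMap.snd F _ _ ∘ₗ G0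
  let τ : (Fin n → F) →ₗ[F] (Fin n → F) := LinearMap.snd F V (Fin n → F) ∘ₗ LinearMap.snd F _ _ ∘ₗ G0
  have hγτ : ∀ a, a ⬝ᵥ τ a + Q (γ a) = 0 := by
    intro a
    have h1 : MQ n Q (G0 a) = 0 := by
      rw [G0a, mem_O.1 hg, MQ_apply]; simp
    rw [MQ_apply', G1] at h1
    exact h1
  have hu := um_mem hγτ
  let p := (um Q γ τ)⁻¹ * g * (lev A (1 : V ≃ₗ[F] V))⁻¹
  have hp : p ∈ O (MQ n Q) := (O (MQ n Q)).mul_mem ((O (MQ n Q)).mul_mem
    ((O (MQ n Q)).inv_mem hu.1) hg) ((O (MQ n Q)).inv_mem (lev_mem (O Q).one_mem))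
  have hfix : ∀ a, p (a, 0, 0) = (a, 0, 0) := by
    intro a
    have e1 : (um Q γ τ) (a, 0, 0) = G0 a := by
      rw [um_apply]
      simp only [zero_add, map_zero, sub_zero]
      exact Prod.ext (G1 a).symm rfl
    have e2 : (g * (lev A (1 : V ≃ₗ[F] V))⁻¹) (a, 0, 0) = G0 a := by
      rw [← lev_inv, LinearEquiv.mul_apply, lev_apply, G0a]
      simp
    show ((um Q γ τ)⁻¹ * g * (lev A (1 : V ≃ₗ[F] V))⁻¹) (a, 0, 0) = _
    rw [mul_assoc, LinearEquiv.mul_apply, e2, ← e1, ← LinearEquiv.mul_apply, inv_mul_cancel]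
    rfl
  obtain ⟨g₁, hg₁, u, hu', e⟩ := fixW hp hfix
  refine ⟨um Q γ τ, hu, g₁, hg₁, (lev A 1)⁻¹ * u * lev A 1, ?_, ?_⟩
  · have := lev_conj_Up (A := A⁻¹) (h := 1) (O Q).one_mem hu'
    have e3 : lev (F := F) A⁻¹ (1 : V ≃ₗ[F] V) = (lev A 1)⁻¹ := by
      rw [← lev_inv, inv_one]
    rw [e3, inv_inv] at this
    exact this
  · have e4 : g = um Q γ τ * p * lev A 1 := by
      show g = um Q γ τ * ((um Q γ τ)⁻¹ * g * (lev A (1 : V ≃ₗ[F] V))⁻¹) * lev A 1
      group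
    rw [e4, e]
    have e5 : lev A g₁ = lev (1 : GL (Fin n) F) g₁ * lev A 1 := by
      rw [← lev_mul, one_mul, mul_one]
    rw [e5]
    group

end Cfsg.Agent.H140.OreO
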