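import Mathlib
import Cfsg.Agent.H140.OreO.Decomp

/-!
# Interface of the Ore-Omega project (S2447, S2448, S2449)

* `Frame Q w w'` : dual totally singular families `w w' : Fin n → V`.
* `perp Q w w'` : the orthogonal complement `V₁` of their span, with the form `Q₁ = res Q w w'`.
* `corner Q g w w'` : the matrix `i j ↦ polar Q (g (w j)) (w' i)`.
* `SchurOne Q g w w'` : the Schur complement of `g` on `V₁` is `1`.
* `toModel` : the isometry `V ≃ F^n × V₁ × F^n`.
* `IdFrame m Q g` : existence of a frame of length `m` with corner `1` (identity block).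
* `BaseCorner n Q g` : frame of length `n` with Schur complement `1` and corner `A`, `det A = 1`,
  `A = 1` or (`A` not scalar and `2 ≤ rank (A - 1)`).
-/

set_option autoImplicit false
set_option linter.unusedSectionVars false

namespace Cfsg.Agent.H140.OreO

open QuadraticMap Cfsg.Agent.LieClassical.OrthCore Cfsg.Agent.LieClassical.OrthTrans Matrix

variable {F V : Type*} [Field F] [AddCommGroup V] [Module F V] {n : ℕ} {Q : QuadraticForm F V}

/-- Dual totally singular families. -/
structure Frame (Q : QuadraticForm F V) (w w' : Fin n → V) : Prop where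
  sl : ∀ i, Q (w i) = 0
  sr : ∀ i, Q (w' i) = 0
  ll : ∀ i j, polar Q (w i) (w j) = 0
  rr : ∀ i j, polar Q (w' i) (w' j) = 0
  lr : ∀ i j, polar Q (w i) (w' j) = if i = j then 1 else 0

/-- The orthogonal complement of the span of a frame. -/
def perp (Q : QuadraticForm F V) (w w' : Fin n → V) : Submodule F V where
  carrier := {v | ∀ i, polar Q (w i) v = 0 ∧ polar Q (w' i) v = 0}
  zero_mem' := fun i => ⟨polar_zero_right _ _, polar_zero_right _ _⟩
  add_mem' {a b} ha hb := fun i => by
    rw [polar_add_right, polar_add_right, (ha i).1, (hb i).1, (ha i).2, (hb i).2, add_zero]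
    exact ⟨rfl, rfl⟩
  smul_mem' c a ha := fun i => by
    rw [polar_smul_right, polar_smul_right, (ha i).1, (ha i).2, smul_zero]
    exact ⟨rfl, rfl⟩

theorem mem_perp {w w' : Fin n → V} {v : V} :
    v ∈ perp Q w w' ↔ ∀ i, polar Q (w i) v = 0 ∧ polar Q (w' i) v = 0 := Iff.rfl

/-- The restricted form. -/
def res (Q : QuadraticForm F V) (w w' : Fin n → V) : QuadraticForm F (perp Q w w') :=
  Q.comp (perp Q w w').subtype

theorem res_apply (w w' : Fin n → V) (v : perp Q w w') : res Q w w' v = Q (v : V) := rfl

/-- The corner matrix. -/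
def corner (Q : QuadraticForm F V) (g : V → V) (w w' : Fin n → V) : Matrix (Fin n) (Fin n) F :=
  Matrix.of fun i j => polar Q (g (w j)) (w' i)

theorem corner_apply (g : V → V) (w w' : Fin n → V) (i j : Fin n) :
    corner Q g w w' i j = polar Q (g (w j)) (w' i) := rfl

/-- The Schur complement of `g` on `perp Q w w'` is `1`: every `v` there has
`g (v + w) ∈ v + W'` for some `w ∈ W`. -/
def SchurOne (Q : QuadraticForm F V) (g : V → V) (w w' : Fin n → V) : Prop :=
  ∀ v ∈ perp Q w w', ∃ c d : Fin n → F, g (v + ∑ i, c i • w i) = v + ∑ i, d i • w' i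

/-- Existence of an identity block of size `m`. -/
def IdFrame (m : ℕ) (Q : QuadraticForm F V) (g : V → V) : Prop :=
  ∃ w w' : Fin m → V, Frame Q w w' ∧ corner Q g w w' = 1

/-- The output of the base corner theorem. -/
def BaseCorner (n : ℕ) (Q : QuadraticForm F V) (g : V → V) : Prop :=
  ∃ w w' : Fin n → V, Frame Q w w' ∧ SchurOne Q g w w' ∧ (corner Q g w w').det = 1 ∧
    (corner Q g w w' = 1 ∨
      ((∀ c : F, corner Q g w w' ≠ c • (1 : Matrix (Fin n) (Fin n) F)) ∧
        2 ≤ (corner Q g w w' - 1).rank))

/-- The map from the model space to `V`. -/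
def fromModel (w w' : Fin n → V) : M F (perp Q w w') n →ₗ[F] V :=
  (Fintype.linearCombination F w).coprod
    ((perp Q w w').subtype.coprod (Fintype.linearCombination F w'))

theorem fromModel_apply (w w' : Fin n → V) (x : M F (perp Q w w') n) :
    fromModel w w' x = ∑ i, x.1 i • w i + ((x.2.1 : V) + ∑ i, x.2.2 i • w' i) := by
  simp [fromModel, Fintype.linearCombination_apply]

namespace Frame

variable {w w' : Fin n → V}

theorem polar_sum_l (hf : Frame Q w w') (a : Fin n → F) (j : Fin n) :
    polar Q (∑ i, a i • w i) (w' j) = a j := by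
  rw [← polarBilin_apply_apply, map_sum, LinearMap.sum_apply]
  simp only [map_smul, LinearMap.smul_apply, polarBilin_apply_apply, hf.lr, smul_eq_mul]
  simp

theorem polar_sum_r (hf : Frame Q w w') (b : Fin n → F) (j : Fin n) :
    polar Q (∑ i, b i • w' i) (w j) = b j := by
  rw [← polarBilin_apply_apply, map_sum, LinearMap.sum_apply]
  simp only [map_smul, LinearMap.smul_apply, polarBilin_apply_apply, polar_comm Q (w' _) (w j),
    hf.lr, smul_eq_mul]
  simp

theorem polar_sum_ll (hf : Frame Q w w') (a : Fin n → F) (j : Fin n) :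
    polar Q (∑ i, a i • w i) (w j) = 0 := by
  rw [← polarBilin_apply_apply, map_sum, LinearMap.sum_apply]
  simp only [map_smul, LinearMap.smul_apply, polarBilin_apply_apply, hf.ll]
  simp

theorem polar_sum_rr (hf : Frame Q w w') (b : Fin n → F) (j : Fin n) :
    polar Q (∑ i, b i • w' i) (w' j) = 0 := by
  rw [← polarBilin_apply_apply, map_sum, LinearMap.sum_apply]
  simp only [map_smul, LinearMap.smul_apply, polarBilin_apply_apply, hf.rr]
  simp

theorem polar_sum_sum (hf : Frame Q w w') (a b : Fin n → F) :
    polar Q (∑ i, a i • w i) (∑ i, b i • w' i) = a ⬝ᵥ b := by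
  rw [← polarBilin_apply_apply, map_sum, dotProduct]
  refine Finset.sum_congr rfl fun i _ => ?_
  rw [map_smul, polarBilin_apply_apply, hf.polar_sum_l, smul_eq_mul, mul_comm]

theorem Q_sum_l (hf : Frame Q w w') (a : Fin n → F) (s : Finset (Fin n)) :
    Q (∑ i ∈ s, a i • w i) = 0 := by
  induction s using Finset.induction_on with
  | empty => simp
  | insert i s hi ih =>
    rw [Finset.sum_insert hi, Q_add, ih, QuadraticMap.map_smul, hf.sl, smul_zero, zero_add,
      zero_add, polar_smul_left, ← polarBilin_apply_apply, map_sum]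
    simp only [map_smul, polarBilin_apply_apply, hf.ll]
    simp

theorem symm (hf : Frame Q w w') : Frame Q w' w :=
  ⟨hf.sr, hf.sl, hf.rr, hf.ll, fun i j => by rw [polar_comm, hf.lr]; simp only [eq_comm]⟩

theorem Q_sum_r (hf : Frame Q w w') (a : Fin n → F) (s : Finset (Fin n)) :
    Q (∑ i ∈ s, a i • w' i) = 0 := hf.symm.Q_sum_l a s

theorem polar_perp_l (a : Fin n → F) {v : V} (hv : v ∈ perp Q w w') :
    polar Q (∑ i, a i • w i) v = 0 := by
  rw [← polarBilin_apply_apply, map_sum, LinearMap.sum_apply]
  simp only [map_smul, LinearMap.smul_apply, polarBilin_apply_apply, (hv _).1]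
  simp

theorem polar_perp_r (a : Fin n → F) {v : V} (hv : v ∈ perp Q w w') :
    polar Q (∑ i, a i • w' i) v = 0 := by
  rw [← polarBilin_apply_apply, map_sum, LinearMap.sum_apply]
  simp only [map_smul, LinearMap.smul_apply, polarBilin_apply_apply, (hv _).2]
  simp

theorem Q_fromModel (hf : Frame Q w w') (x : M F (perp Q w w') n) :
    Q (fromModel w w' x) = MQ n (res Q w w') x := by
  rw [fromModel_apply, MQ_apply', Q_add, Q_add, hf.Q_sum_l, hf.Q_sum_r, polar_add_right,
    hf.polar_sum_sum, polar_perp_l _ x.2.1.2, polar_comm Q (x.2.1 : V), polar_perp_r _ x.2.1.2,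
    res_apply]
  ring

theorem proj_mem (hf : Frame Q w w') (v : V) :
    v - (∑ i, polar Q v (w' i) • w i + ∑ i, polar Q v (w i) • w' i) ∈ perp Q w w' := by
  intro j
  constructor
  · rw [polar_sub_right, polar_add_right, polar_comm Q (w j) (∑ i, _ • w i), hf.polar_sum_ll,
      polar_comm Q (w j) (∑ i, _ • w' i), hf.polar_sum_r, polar_comm Q (w j) v]
    ring
  · rw [polar_sub_right, polar_add_right, polar_comm Q (w' j) (∑ i, _ • w i), hf.polar_sum_l,
      polar_comm Q (w' j) (∑ i, _ • w' i), hf.polar_sum_rr, polar_comm Q (w' j) v]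
    ring

/-- The isometry `V ≃ F^n × V₁ × F^n`. -/
noncomputable def toModel (hf : Frame Q w w') : V ≃ₗ[F] M F (perp Q w w') n :=
  LinearEquiv.symm <| LinearEquiv.ofBijective (fromModel w w') (by
    constructor
    · rw [← LinearMap.ker_eq_bot, LinearMap.ker_eq_bot']
      intro x hx
      rw [fromModel_apply] at hx
      have h1 : x.1 = 0 := by
        ext j
        have := hf.polar_sum_l x.1 j
        have h2 : ∑ i, x.1 i • w i = -((x.2.1 : V) + ∑ i, x.2.2 i • w' i) :=
          eq_neg_of_add_eq_zero_left hx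
        rw [← this, h2, polar_neg_left, polar_add_left, hf.polar_sum_rr, polar_comm,
          (x.2.1.2 j).2]
        simp
      have h3 : x.2.2 = 0 := by
        ext j
        rw [h1] at hx
        simp only [Pi.zero_apply, zero_smul, Finset.sum_const_zero, zero_add] at hx
        have h2 : ∑ i, x.2.2 i • w' i = -(x.2.1 : V) := eq_neg_of_add_eq_zero_right hx
        have := hf.polar_sum_r x.2.2 j
        rw [← this, h2, polar_neg_left, polar_comm, (x.2.1.2 j).1]
        simp
      have h4 : x.2.1 = 0 := by
        rw [h1, h3] at hx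
        simpa using hx
      exact Prod.ext h1 (Prod.ext h4 h3)
    · intro v
      refine ⟨(fun i => polar Q v (w' i), ⟨_, hf.proj_mem v⟩, fun i => polar Q v (w i)), ?_⟩
      rw [fromModel_apply]
      simp only
      abel)

theorem toModel_symm_apply (hf : Frame Q w w') (x : M F (perp Q w w') n) :
    hf.toModel.symm x = ∑ i, x.1 i • w i + ((x.2.1 : V) + ∑ i, x.2.2 i • w' i) := by
  rw [← fromModel_apply]; rfl

theorem MQ_toModel (hf : Frame Q w w') (v : V) : MQ n (res Q w w') (hf.toModel v) = Q v := by
  conv_rhs => rw [← hf.toModel.symm_apply_apply v]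
  exact (hf.Q_fromModel _).symm

theorem toModel_fst (hf : Frame Q w w') (v : V) (i : Fin n) :
    (hf.toModel v).1 i = polar Q v (w' i) := by
  conv_rhs => rw [← hf.toModel.symm_apply_apply v, toModel_symm_apply, polar_add_left,
    polar_add_left, hf.polar_sum_l, hf.polar_sum_rr, polar_comm Q (((hf.toModel v).2.1 : V)),
    ((hf.toModel v).2.1.2 i).2]
  ring

theorem toModel_snd (hf : Frame Q w w') (v : V) (i : Fin n) :
    (hf.toModel v).2.2 i = polar Q v (w i) := by
  conv_rhs => rw [← hf.toModel.symm_apply_apply v, toModel_symm_apply, polar_add_left,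
    polar_add_left, hf.polar_sum_ll, hf.polar_sum_r, polar_comm Q (((hf.toModel v).2.1 : V)),
    ((hf.toModel v).2.1.2 i).1]
  ring

/-- `V₁` is nondegenerate. -/
theorem nondeg_res (hf : Frame Q w w') (hQ : Nondeg Q) : Nondeg (res Q w w') := by
  intro x hx
  have h : (x : V) = 0 := by
    apply hQ
    intro y
    have e := hf.toModel_symm_apply (hf.toModel y)
    rw [LinearEquiv.symm_apply_apply] at e
    rw [e, polar_add_right, polar_add_right, polar_comm Q (x : V) (∑ i, _ • w i),
      polar_perp_l _ x.2, polar_comm Q (x : V) (∑ i, _ • w' i), polar_perp_r _ x.2]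
    have h2 := hx (hf.toModel y).2.1
    have h3 : polar Q (x : V) ((hf.toModel y).2.1 : V) = 0 := h2
    rw [h3]; ring
  exact Subtype.ext h

/-- Dimension. -/
theorem finrank_perp [FiniteDimensional F V] (hf : Frame Q w w') :
    Module.finrank F (perp Q w w') + 2 * n = Module.finrank F V := by
  have := hf.toModel.finrank_eq
  rw [this, Module.finrank_prod, Module.finrank_prod, Module.finrank_fin_fun]
  ring

end Frame

/-- Conjugating the orthogonal group by an isometry. -/
theorem conj_mem_O {V' : Type*} [AddCommGroup V'] [Module F V'] {Q' : QuadraticForm F V'}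
    (e : V ≃ₗ[F] V') (he : ∀ v, Q' (e v) = Q v) {g : V ≃ₗ[F] V} (hg : g ∈ O Q) :
    e.symm.trans (g.trans e) ∈ O Q' := by
  intro x
  show Q' (e (g (e.symm x))) = Q' x
  rw [he, mem_O.1 hg, ← he, LinearEquiv.apply_symm_apply]

end Cfsg.Agent.H140.OreO
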