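import Mathlib

/-!
# The `GL_3` lemma

`F` finite with at least three elements, `A ∈ SL_3(F)` not scalar with `rank (A - 1) ≥ 2`, `s ≠ 0`:
there is `Y ∈ GL_3(F)` with `charpoly Y = charpoly (A * Y)` irreducible and `det Y * s` a square.
-/

set_option autoImplicit false
set_option linter.unusedSectionVars false
set_option linter.unusedSimpArgs false
set_option linter.unusedVariables false

namespace Cfsg.Agent.H140.OreO.GL3

open Polynomial Matrix

variable {F : Type*} [Field F]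

/-- Matrices similar. -/
def Sim (A B : Matrix (Fin 3) (Fin 3) F) : Prop := ∃ P : Matrix (Fin 3) (Fin 3) F, P.det ≠ 0 ∧ A * P = P * B

theorem Sim.symm {A B : Matrix (Fin 3) (Fin 3) F} (h : Sim A B) : Sim B A := by
  obtain ⟨P, hP, e⟩ := h
  have hu : IsUnit P.det := hP.isUnit
  refine ⟨P⁻¹, ?_, ?_⟩
  · rw [det_nonsing_inv]
    simpa using hP
  · have h1 : P⁻¹ * (A * P) * P⁻¹ = P⁻¹ * (P * B) * P⁻¹ := by rw [e]
    rw [← Matrix.mul_assoc, Matrix.mul_assoc (P⁻¹ * A), mul_nonsing_inv _ hu, Matrix.mul_one,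
      ← Matrix.mul_assoc, nonsing_inv_mul _ hu, Matrix.one_mul] at h1
    exact h1.symm

theorem Sim.trans {A B C : Matrix (Fin 3) (Fin 3) F} (h : Sim A B) (h' : Sim B C) : Sim A C := by
  obtain ⟨P, hP, e⟩ := h
  obtain ⟨P', hP', e'⟩ := h'
  refine ⟨P * P', by rw [det_mul]; exact mul_ne_zero hP hP', ?_⟩
  rw [← Matrix.mul_assoc, e, Matrix.mul_assoc, e', Matrix.mul_assoc]

theorem charpoly_of_sim {A B P : Matrix (Fin 3) (Fin 3) F} (hP : P.det ≠ 0) (e : A * P = P * B) :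
    A.charpoly = B.charpoly := by
  have hu : IsUnit P.det := hP.isUnit
  have : A = P * B * P⁻¹ := by
    rw [← e, Matrix.mul_assoc, mul_nonsing_inv _ hu, Matrix.mul_one]
  rw [this]
  exact Matrix.charpoly_units_conj (M := (Matrix.nonsingInvUnit P hu)) B

/-- The goal for a matrix `A`. -/
def Goal (A : Matrix (Fin 3) (Fin 3) F) (s : F) : Prop :=
  ∃ Y : Matrix (Fin 3) (Fin 3) F, Y.det ≠ 0 ∧ Y.charpoly = (A * Y).charpoly ∧
    Irreducible Y.charpoly ∧ IsSquare (Y.det * s)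

theorem Goal.of_sim {A B : Matrix (Fin 3) (Fin 3) F} {s : F} (h : Sim A B) (hB : Goal B s) :
    Goal A s := by
  obtain ⟨P, hP, e⟩ := h
  obtain ⟨Y, hY, hc, hi, hs⟩ := hB
  have hu : IsUnit P.det := hP.isUnit
  have e1 : (P * Y * P⁻¹) * P = P * Y := by
    rw [Matrix.mul_assoc, nonsing_inv_mul _ hu, Matrix.mul_one]
  have e2 : (A * (P * Y * P⁻¹)) * P = P * (B * Y) := by
    rw [Matrix.mul_assoc, e1, ← Matrix.mul_assoc, e, Matrix.mul_assoc]
  have d : (P * Y * P⁻¹).det = Y.det := by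
    rw [det_mul, det_mul, det_nonsing_inv, Ring.inverse_eq_inv', mul_right_comm,
      mul_inv_cancel₀ hP, one_mul]
  refine ⟨P * Y * P⁻¹, by rwa [d], ?_, ?_, by rwa [d]⟩
  · rw [charpoly_of_sim hP e1, charpoly_of_sim hP e2, hc]
  · rw [charpoly_of_sim hP e1]; exact hi

/-- second coefficient -/
def e2 (A : Matrix (Fin 3) (Fin 3) F) : F :=
  A 0 0 * A 1 1 - A 0 1 * A 1 0 + (A 0 0 * A 2 2 - A 0 2 * A 2 0) + (A 1 1 * A 2 2 - A 1 2 * A 2 1)

theorem cayley (A : Matrix (Fin 3) (Fin 3) F) :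
    A * A * A = A.trace • (A * A) - e2 A • A + A.det • (1 : Matrix (Fin 3) (Fin 3) F) := by
  ext i j
  fin_cases i <;> fin_cases j <;>
    simp [Matrix.mul_apply, Fin.sum_univ_three, det_fin_three, trace_fin_three, e2] <;> ring

theorem charpoly_three (A : Matrix (Fin 3) (Fin 3) F) :
    A.charpoly = X ^ 3 - C A.trace * X ^ 2 + C (e2 A) * X - C A.det := by
  rw [Matrix.charpoly, det_fin_three]
  simp [charmatrix_apply, trace_fin_three, e2, det_fin_three, Matrix.diagonal]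
  ring

/-- The matrix with columns `u v w`. -/
def cols (u v w : Fin 3 → F) : Matrix (Fin 3) (Fin 3) F :=
  of ![![u 0, v 0, w 0], ![u 1, v 1, w 1], ![u 2, v 2, w 2]]

theorem det_cols (u v w : Fin 3 → F) : (cols u v w).det =
    u 0 * v 1 * w 2 - u 0 * w 1 * v 2 - v 0 * u 1 * w 2 + v 0 * w 1 * u 2 + w 0 * u 1 * v 2
      - w 0 * v 1 * u 2 := by
  simp [cols, det_fin_three]

theorem mul_cols (A : Matrix (Fin 3) (Fin 3) F) (u v w : Fin 3 → F) :
    A * cols u v w = cols (A *ᵥ u) (A *ᵥ v) (A *ᵥ w) := by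
  ext i j
  fin_cases i <;> fin_cases j <;>
    simp [cols, Matrix.mul_apply, Fin.sum_univ_three, mulVec, dotProduct]

theorem cols_mul (u v w : Fin 3 → F) (M : Matrix (Fin 3) (Fin 3) F) :
    cols u v w * M = cols (M 0 0 • u + M 1 0 • v + M 2 0 • w) (M 0 1 • u + M 1 1 • v + M 2 1 • w)
      (M 0 2 • u + M 1 2 • v + M 2 2 • w) := by
  ext i j
  fin_cases i <;> fin_cases j <;>
    simp [cols, Matrix.mul_apply, Fin.sum_univ_three] <;> ring

theorem cols_mulVec (u v w c : Fin 3 → F) :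
    cols u v w *ᵥ c = c 0 • u + c 1 • v + c 2 • w := by
  ext i
  fin_cases i <;> simp [cols, mulVec, dotProduct, Fin.sum_univ_three] <;> ring

/-- Cyclic matrices with the same invariants are similar. -/
theorem sim_of_cyclic {A : Matrix (Fin 3) (Fin 3) F} {v : Fin 3 → F}
    (h : (cols v (A *ᵥ v) (A *ᵥ (A *ᵥ v))).det ≠ 0) :
    Sim A (of ![![0, 0, A.det], ![1, 0, - e2 A], ![0, 1, A.trace]]) := by
  refine ⟨_, h, ?_⟩
  rw [mul_cols, cols_mul]
  have h1 : A *ᵥ (A *ᵥ (A *ᵥ v)) =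
      A.det • v + (- e2 A) • (A *ᵥ v) + A.trace • (A *ᵥ (A *ᵥ v)) := by
    have := congrArg (fun M => M *ᵥ v) (cayley A)
    simp only [add_mulVec, sub_mulVec, smul_mulVec, one_mulVec, ← mulVec_mulVec] at this
    rw [this]
    module
  rw [h1]
  simp

/-- Every vector has a relation of length two iff the matrix is quadratic. -/
theorem cyclic_or_quadratic (A : Matrix (Fin 3) (Fin 3) F) :
    (∃ v, (cols v (A *ᵥ v) (A *ᵥ (A *ᵥ v))).det ≠ 0) ∨ ∃ α β : F, A * A = α • A + β • (1 : Matrix _ _ F) := by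
  obtain ⟨v₀, hv₀⟩ := Module.exists_ker_toSpanSingleton_eq_annihilator F[X]
    (Module.AEval' (Matrix.toLin' A))
  obtain ⟨v, hv⟩ : ∃ v : Fin 3 → F, ∀ p : F[X], aeval (Matrix.toLin' A) p v = 0 →
      minpoly F (Matrix.toLin' A) ∣ p := by
    refine ⟨(Module.AEval'.of (Matrix.toLin' A)).symm v₀, fun p hp => ?_⟩
    have h1 : p • v₀ = 0 := by
      obtain ⟨w, rfl⟩ := (Module.AEval'.of (Matrix.toLin' A)).surjective v₀
      rw [LinearEquiv.symm_apply_apply] at hp
      rw [← Module.AEval.of_aeval_smul]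
      have : (aeval (Matrix.toLin' A) p • w : Fin 3 → F) = aeval (Matrix.toLin' A) p w := rfl
      rw [this, hp, map_zero]
    have h2 : p ∈ LinearMap.ker (LinearMap.toSpanSingleton F[X]
        (Module.AEval' (Matrix.toLin' A)) v₀) := by
      rw [LinearMap.mem_ker, LinearMap.toSpanSingleton_apply, h1]
    rw [hv₀, ← span_minpoly_eq_annihilator, Ideal.mem_span_singleton] at h2
    exact h2
  by_cases hdet : (cols v (A *ᵥ v) (A *ᵥ (A *ᵥ v))).det = 0
  · right
    obtain ⟨c, hc0, hc⟩ := Matrix.exists_mulVec_eq_zero_iff.2 hdet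
    have hrel : c 0 • v + c 1 • (A *ᵥ v) + c 2 • (A *ᵥ (A *ᵥ v)) = 0 := by
      rw [← cols_mulVec]
      exact hc
    let p : F[X] := C (c 0) + C (c 1) * X + C (c 2) * X ^ 2
    have hp : aeval (Matrix.toLin' A) p v = 0 := by
      simp only [p, map_add, map_mul, aeval_C, aeval_X, map_pow, LinearMap.add_apply,
        Module.End.mul_apply, Module.algebraMap_end_apply, pow_two, Matrix.toLin'_apply]
      exact hrel
    have hp2 : aeval (Matrix.toLin' A) p = 0 := by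
      obtain ⟨r, hr⟩ := hv p hp
      rw [hr, map_mul, minpoly.aeval, zero_mul]
    have hp3 : c 0 • (1 : Matrix (Fin 3) (Fin 3) F) + c 1 • A + c 2 • (A * A) = 0 := by
      apply Matrix.toLin'.injective
      rw [map_zero, ← hp2]
      simp only [p, map_add, map_mul, aeval_C, aeval_X, map_pow, map_smul, Matrix.toLin'_one,
        Matrix.toLin'_mul]
      apply LinearMap.ext
      intro w
      simp [pow_two, Module.algebraMap_end_apply]
    by_cases h2 : c 2 = 0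
    · by_cases h1 : c 1 = 0
      · exfalso
        rw [h1, h2, zero_smul, zero_smul, add_zero, add_zero] at hp3
        have h0 : c 0 = 0 := by
          have := congrFun (congrFun hp3 0) 0
          simpa using this
        apply hc0
        ext i
        fin_cases i
        · exact h0
        · exact h1
        · exact h2
      · rw [h2, zero_smul, add_zero] at hp3
        have hA : A = (-(c 1)⁻¹ * c 0) • (1 : Matrix (Fin 3) (Fin 3) F) := by
          have h3 : c 1 • A = - (c 0 • (1 : Matrix (Fin 3) (Fin 3) F)) :=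
            eq_neg_of_add_eq_zero_right hp3
          have h4 : (c 1)⁻¹ • c 1 • A = (c 1)⁻¹ • - (c 0 • (1 : Matrix (Fin 3) (Fin 3) F)) := by
            rw [h3]
          rw [inv_smul_smul₀ h1] at h4
          rw [h4, smul_neg, smul_smul, neg_mul, neg_smul]
        refine ⟨-(c 1)⁻¹ * c 0, 0, ?_⟩
        nth_rewrite 1 [hA]
        rw [smul_mul, Matrix.one_mul, zero_smul, add_zero]
    · refine ⟨-(c 2)⁻¹ * c 1, -(c 2)⁻¹ * c 0, ?_⟩
      have h3 : c 2 • (A * A) = - (c 0 • (1 : Matrix (Fin 3) (Fin 3) F) + c 1 • A) :=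
        eq_neg_of_add_eq_zero_right hp3
      have h4 : (c 2)⁻¹ • c 2 • (A * A) =
          (c 2)⁻¹ • - (c 0 • (1 : Matrix (Fin 3) (Fin 3) F) + c 1 • A) := by rw [h3]
      rw [inv_smul_smul₀ h2] at h4
      rw [h4]
      module
  · exact Or.inl ⟨v, hdet⟩

/-- There is an irreducible cubic with prescribed trace and determinant. -/
theorem exists_cubic [Finite F] (z₁ z₃ : F) (h1 : z₁ ≠ 0) :
    ∃ z₂ : F, Irreducible (X ^ 3 - C z₃ * X ^ 2 - C z₂ * X - C z₁ : F[X]) := by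
  classical
  have := Fintype.ofFinite F
  -- the values `(r^3 - z₃ r^2 - z₁) / r` do not exhaust `F`
  have hns : ∃ z₂ : F, ∀ r : F, r ≠ 0 → (r ^ 3 - z₃ * r ^ 2 - z₁) / r ≠ z₂ := by
    by_contra hcon
    push Not at hcon
    choose f hf0 hf using hcon
    have hinj : Function.Injective f := fun a b hab => by rw [← hf a, ← hf b, hab]
    obtain ⟨a, ha⟩ := (Finite.injective_iff_surjective.1 hinj) 0
    exact hf0 a ha
  obtain ⟨z₂, hz₂⟩ := hns
  refine ⟨z₂, ?_⟩
  have hdeg : (X ^ 3 - C z₃ * X ^ 2 - C z₂ * X - C z₁ : F[X]).natDegree = 3 := by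
    compute_degree!
  rw [Polynomial.irreducible_iff_roots_eq_zero_of_degree_le_three (by rw [hdeg]; norm_num)
    (by rw [hdeg])]
  rw [Multiset.eq_zero_iff_forall_notMem]
  intro r hr
  have hr' := (mem_roots'.1 hr).2
  rw [IsRoot.def] at hr'
  simp only [eval_sub, eval_mul, eval_pow, eval_C, eval_X] at hr'
  have hr0 : r ≠ 0 := by
    rintro rfl
    apply h1
    simpa using hr'
  apply hz₂ r hr0
  rw [div_eq_iff hr0]
  linear_combination hr'

/-- the companion matrix -/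
def yy (z₁ z₂ z₃ : F) : Matrix (Fin 3) (Fin 3) F := of ![![0, 0, z₁], ![1, 0, z₂], ![0, 1, z₃]]

theorem det_yy (z₁ z₂ z₃ : F) : (yy z₁ z₂ z₃).det = z₁ := by
  simp [yy, det_fin_three]

theorem charpoly_yy (z₁ z₂ z₃ : F) :
    (yy z₁ z₂ z₃).charpoly = X ^ 3 - C z₃ * X ^ 2 - C z₂ * X - C z₁ := by
  rw [charpoly_three, det_yy]
  simp [yy, e2, trace_fin_three]
  ring

/-- The commutator matrix. -/
def aa (a c z₁ z₃ : F) : Matrix (Fin 3) (Fin 3) F :=
  of ![![1 + (a ^ 2 * c + a ^ 2 * z₃) / z₁, a, - a ^ 2],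
    ![(a * c + a * z₃ - c ^ 2) / z₁, 1, c - a], ![- c / z₁, 0, 1]]

theorem goal_aa {a c z₁ z₂ z₃ s : F} (h1 : z₁ ≠ 0) (hs : IsSquare (z₁ * s))
    (hi : Irreducible (X ^ 3 - C z₃ * X ^ 2 - C z₂ * X - C z₁ : F[X])) : Goal (aa a c z₁ z₃) s := by
  refine ⟨yy z₁ z₂ z₃, by rwa [det_yy], ?_, by rwa [charpoly_yy], by rwa [det_yy]⟩
  refine (charpoly_of_sim (P := of ![![1, a, 0], ![0, 1, c], ![0, 0, 1]]) ?_ ?_).symm
  · simp [det_fin_three]
  · ext i j
    fin_cases i <;> fin_cases j <;>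
      simp [aa, yy, Matrix.mul_apply, Fin.sum_univ_three] <;> field_simp <;> ring

theorem aa_cyclic {a c z₁ z₃ : F} (h1 : z₁ ≠ 0) (ha : a ≠ 0) (hac : a ≠ c) :
    ∃ v, (cols v (aa a c z₁ z₃ *ᵥ v) (aa a c z₁ z₃ *ᵥ (aa a c z₁ z₃ *ᵥ v))).det ≠ 0 := by
  rcases cyclic_or_quadratic (aa a c z₁ z₃) with h | ⟨α, β, h⟩
  · exact h
  · exfalso
    have h21 := congrFun (congrFun h 2) 1
    have h01 := congrFun (congrFun h 0) 1
    have h02 := congrFun (congrFun h 0) 2
    simp [aa, Matrix.mul_apply, Fin.sum_univ_three] at h21 h01 h02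
    have hc : c = 0 := by
      rcases h21 with h | h
      · rcases h with h | h
        · exact h
        · exact absurd h h1
      · exact absurd h ha
    subst hc
    have e1 : α = 1 + (a ^ 2 * 0 + a ^ 2 * z₃) / z₁ + 1 := by
      apply mul_right_cancel₀ ha
      rw [← h01]; ring
    have e2 : α = 1 + (a ^ 2 * 0 + a ^ 2 * z₃) / z₁ + 2 := by
      apply mul_right_cancel₀ (pow_ne_zero 2 ha)
      linear_combination h02
    rw [e1] at e2
    have : (1 : F) = 0 := by linear_combination -e2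
    exact one_ne_zero this

theorem det_aa {a c z₁ z₃ : F} (h1 : z₁ ≠ 0) : (aa a c z₁ z₃).det = 1 := by
  simp [aa, det_fin_three]
  field_simp
  ring

theorem trace_aa (a c z₁ z₃ : F) :
    (aa a c z₁ z₃).trace = 3 + (a ^ 2 * c + a ^ 2 * z₃) / z₁ := by
  simp [aa, trace_fin_three]
  ring

theorem e2_aa {a c z₁ z₃ : F} (h1 : z₁ ≠ 0) :
    e2 (aa a c z₁ z₃) = 3 + (a ^ 2 * z₃ + a * c ^ 2) / z₁ := by
  simp [aa, e2]
  field_simp
  ring

theorem goal_of_cyclic [Finite F] (hF : 3 ≤ Nat.card F) {A : Matrix (Fin 3) (Fin 3) F}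
    (hdet : A.det = 1) {s : F} (hs : s ≠ 0)
    (hc : ∃ v, (cols v (A *ᵥ v) (A *ᵥ (A *ᵥ v))).det ≠ 0) : Goal A s := by
  -- parameters
  obtain ⟨a, c, z₁, z₃, h1, ha, hac, hsq, hT1, hT2⟩ : ∃ a c z₁ z₃ : F, z₁ ≠ 0 ∧ a ≠ 0 ∧ a ≠ c ∧
      IsSquare (z₁ * s) ∧ 3 + (a ^ 2 * c + a ^ 2 * z₃) / z₁ = A.trace ∧
      3 + (a ^ 2 * z₃ + a * c ^ 2) / z₁ = e2 A := by
    by_cases hT : A.trace = e2 A
    · refine ⟨1, 0, s, s * (A.trace - 3), hs, one_ne_zero, one_ne_zero, ⟨s, rfl⟩, ?_, ?_⟩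
      · field_simp; ring
      · rw [← hT]; field_simp; ring
    · have hΔ : A.trace - e2 A ≠ 0 := sub_ne_zero.2 hT
      obtain ⟨γ, hγ0, hγ1⟩ : ∃ γ : F, γ ≠ 0 ∧ γ ≠ 1 := by
        classical
        have := Fintype.ofFinite F
        rw [Nat.card_eq_fintype_card] at hF
        have : ∃ γ ∈ (Finset.univ : Finset F), γ ∉ ({0, 1} : Finset F) := by
          apply Finset.exists_mem_notMem_of_card_lt_card
          rw [Finset.card_univ]
          exact lt_of_le_of_lt (Finset.card_le_two) (by omega)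
        obtain ⟨γ, -, hγ⟩ := this
        simp only [Finset.mem_insert, Finset.mem_singleton, not_or] at hγ
        exact ⟨γ, hγ⟩
      have hγ1' : 1 - γ ≠ 0 := sub_ne_zero.2 (Ne.symm hγ1)
      set Δ := A.trace - e2 A with hΔdef
      have hv0 : γ * (1 - γ) / Δ ≠ 0 := div_ne_zero (mul_ne_zero hγ0 hγ1') hΔ
      set v₀ := γ * (1 - γ) / Δ with hv₀def
      have hl : s * v₀ ≠ 0 := mul_ne_zero hs hv0
      set l := s * v₀ with hldef
      have hz : l ^ 3 * v₀ ≠ 0 := mul_ne_zero (pow_ne_zero 3 hl) hv0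
      have hvΔ : v₀ * Δ = γ * (1 - γ) := by rw [hv₀def]; field_simp
      have hT2 : e2 A = A.trace - Δ := by rw [hΔdef]; ring
      refine ⟨l, l * γ, l ^ 3 * v₀, (l ^ 3 * v₀ * (A.trace - 3) - l ^ 2 * (l * γ)) / l ^ 2, hz, hl,
        ?_, ?_, ?_, ?_⟩
      · intro h
        apply hγ1
        have : l * (1 - γ) = 0 := by linear_combination h
        rcases mul_eq_zero.1 this with h | h
        · exact absurd h hl
        · linear_combination -h
      · refine ⟨s ^ 2 * v₀ ^ 2, ?_⟩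
        rw [hldef]; ring
      · field_simp
        ring
      · rw [hT2]
        have e : 3 + (l ^ 2 * ((l ^ 3 * v₀ * (A.trace - 3) - l ^ 2 * (l * γ)) / l ^ 2) +
            l * (l * γ) ^ 2) / (l ^ 3 * v₀) = A.trace - (γ * (1 - γ)) / v₀ := by
          field_simp
          ring
        rw [e, ← hvΔ]
        field_simp
  obtain ⟨z₂, hi⟩ := exists_cubic z₁ z₃ h1
  refine Goal.of_sim ?_ (goal_aa (a := a) (c := c) h1 hsq hi)
  obtain ⟨v, hv⟩ := hc
  obtain ⟨v', hv'⟩ := aa_cyclic (z₃ := z₃) h1 ha hac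
  have s1 := sim_of_cyclic hv
  have s2 := sim_of_cyclic hv'
  rw [det_aa h1, trace_aa, e2_aa h1, hT1, hT2] at s2
  rw [hdet] at s1
  exact s1.trans s2.symm

/-! ### The quadratic case -/

/-- normal form -/
def nn (l d : F) : Matrix (Fin 3) (Fin 3) F := of ![![l + d, 1, 0], ![0, l, 0], ![0, 0, l]]

theorem exists_cols {A : Matrix (Fin 3) (Fin 3) F}
    (hns : ∀ c : F, A ≠ c • (1 : Matrix (Fin 3) (Fin 3) F)) :
    ∃ v w, (cols v (A *ᵥ v) w).det ≠ 0 := by
  by_contra hcon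
  push Not at hcon
  apply hns (A 0 0)
  have k1 := hcon ![1, 0, 0] ![0, 0, 1]
  have k2 := hcon ![1, 0, 0] ![0, 1, 0]
  have k3 := hcon ![0, 1, 0] ![1, 0, 0]
  have k4 := hcon ![0, 1, 0] ![0, 0, 1]
  have k5 := hcon ![0, 0, 1] ![1, 0, 0]
  have k6 := hcon ![0, 0, 1] ![0, 1, 0]
  have k7 := hcon ![1, 1, 0] ![0, 0, 1]
  have k8 := hcon ![1, 0, 1] ![0, 1, 0]
  simp [det_cols, mulVec, dotProduct, Fin.sum_univ_three] at k1 k2 k3 k4 k5 k6 k7 k8
  ext i j
  fin_cases i <;> fin_cases j <;> simp <;> grind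

theorem sim_nn_of_quadratic {A : Matrix (Fin 3) (Fin 3) F}
    (hns : ∀ c : F, A ≠ c • (1 : Matrix (Fin 3) (Fin 3) F)) {α β : F}
    (h : A * A = α • A + β • (1 : Matrix (Fin 3) (Fin 3) F)) : ∃ l d, Sim A (nn l d) := by
  obtain ⟨v, w, hvw⟩ := exists_cols hns
  have hu : IsUnit (cols v (A *ᵥ v) w).det := hvw.isUnit
  -- coordinates of `A w`
  obtain ⟨x, hx⟩ : ∃ x, cols v (A *ᵥ v) w *ᵥ x = A *ᵥ w :=
    ⟨(cols v (A *ᵥ v) w)⁻¹ *ᵥ (A *ᵥ w), by
      rw [mulVec_mulVec, mul_nonsing_inv _ hu, one_mulVec]⟩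
  let M : Matrix (Fin 3) (Fin 3) F := of ![![0, β, x 0], ![1, α, x 1], ![0, 0, x 2]]
  have hM : A * cols v (A *ᵥ v) w = cols v (A *ᵥ v) w * M := by
    rw [mul_cols, cols_mul, ← hx, cols_mulVec]
    have h1 : A *ᵥ (A *ᵥ v) = β • v + α • (A *ᵥ v) := by
      rw [mulVec_mulVec, h, add_mulVec, smul_mulVec, smul_mulVec, one_mulVec, add_comm]
    rw [h1]
    simp [M]
  have hM2 : M * M = α • M + β • (1 : Matrix (Fin 3) (Fin 3) F) := by
    have h1 : cols v (A *ᵥ v) w * (M * M) =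
        cols v (A *ᵥ v) w * (α • M + β • (1 : Matrix (Fin 3) (Fin 3) F)) := by
      rw [← Matrix.mul_assoc, ← hM, Matrix.mul_assoc, ← hM, ← Matrix.mul_assoc, h, Matrix.add_mul,
        Matrix.mul_add, smul_mul, Matrix.mul_smul, ← hM, smul_mul, Matrix.mul_smul, Matrix.one_mul,
        Matrix.mul_one]
    have h2 := congrArg (fun N => (cols v (A *ᵥ v) w)⁻¹ * N) h1
    simpa only [← Matrix.mul_assoc, nonsing_inv_mul _ hu, Matrix.one_mul] using h2
  have m22 := congrFun (congrFun hM2 2) 2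
  have m12 := congrFun (congrFun hM2 1) 2
  simp [M, Matrix.mul_apply, Fin.sum_univ_three] at m22 m12
  have hx0 : x 0 = - (x 2 * x 1) := by linear_combination m12
  have hβ : β = - (x 2 * (α - x 2)) := by linear_combination -m22
  refine ⟨x 2, (α - x 2) - x 2, ?_⟩
  refine Sim.trans ⟨_, hvw, hM⟩ ⟨of ![![- x 2, 1, - x 1], ![1, 0, 0], ![0, 0, 1]], ?_, ?_⟩
  · simp [det_fin_three]
  · ext i j
    fin_cases i <;> fin_cases j <;>
      simp [M, nn, Matrix.mul_apply, Fin.sum_univ_three, hx0, hβ] <;> ring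

/-- rank one perturbation of a scalar with first vector `e₁` -/
def pp (l d f g : F) : Matrix (Fin 3) (Fin 3) F := of ![![l + d, f, g], ![0, l, 0], ![0, 0, l]]

theorem sim_pp {l d f g : F} (hf : f ≠ 0) : Sim (nn l d) (pp l d f g) := by
  refine ⟨of ![![1, 0, 0], ![0, f, g], ![0, 0, 1]], ?_, ?_⟩
  · simpa [det_fin_three] using hf
  · ext i j
    fin_cases i <;> fin_cases j <;>
      simp [nn, pp, Matrix.mul_apply, Fin.sum_univ_three] <;> ring

theorem goal_nn [Finite F] {l d s : F} (hs : s ≠ 0) (hdet : l ^ 2 * (l + d) = 1) (hl : l ≠ 1) :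
    Goal (nn l d) s := by
  have hl0 : l ≠ 0 := by rintro rfl; simp at hdet
  obtain ⟨z₂, hi⟩ := exists_cubic s 1 hs
  refine Goal.of_sim (sim_pp (f := 1 - l) (g := (1 - l) + (1 - l ^ 2) * z₂ / l)
    (sub_ne_zero.2 (Ne.symm hl))) ?_
  refine ⟨yy s z₂ 1, by rwa [det_yy], ?_, by rwa [charpoly_yy], by rw [det_yy]; exact ⟨s, rfl⟩⟩
  rw [charpoly_yy, charpoly_three]
  have e1 : (pp l d (1 - l) ((1 - l) + (1 - l ^ 2) * z₂ / l) * yy s z₂ 1).trace = 1 := by
    simp [pp, yy, trace_fin_three, Matrix.mul_apply, Fin.sum_univ_three]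
  have e2' : e2 (pp l d (1 - l) ((1 - l) + (1 - l ^ 2) * z₂ / l) * yy s z₂ 1) = - z₂ := by
    simp [pp, yy, e2, Matrix.mul_apply, Fin.sum_univ_three]
    field_simp
    ring
  have e3 : (pp l d (1 - l) ((1 - l) + (1 - l ^ 2) * z₂ / l) * yy s z₂ 1).det = s := by
    rw [det_mul, det_yy]
    have : (pp l d (1 - l) ((1 - l) + (1 - l ^ 2) * z₂ / l)).det = 1 := by
      rw [← hdet]
      simp [pp, det_fin_three]
      ring
    rw [this, one_mul]
  rw [e1, e2', e3]
  simp only [map_neg, map_one]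
  ring

/-- **The `GL_3` lemma.** -/
theorem main [Finite F] (hF : 3 ≤ Nat.card F) {A : Matrix (Fin 3) (Fin 3) F} (hdet : A.det = 1)
    (hns : ∀ c : F, A ≠ c • (1 : Matrix (Fin 3) (Fin 3) F)) (hr : 2 ≤ (A - 1).rank) {s : F}
    (hs : s ≠ 0) : Goal A s := by
  rcases cyclic_or_quadratic A with h | ⟨α, β, h⟩
  · exact goal_of_cyclic hF hdet hs h
  · obtain ⟨l, d, P, hP, e⟩ := sim_nn_of_quadratic hns h
    have hu : IsUnit P.det := hP.isUnit
    have hd : l ^ 2 * (l + d) = 1 := by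
      have h1 := congrArg Matrix.det e
      rw [det_mul, det_mul, hdet, one_mul] at h1
      have h2 : (nn l d).det = 1 := mul_left_cancel₀ hP (by rw [← h1, mul_one])
      rw [← h2]
      simp [nn, det_fin_three]
      ring
    have hl : l ≠ 1 := by
      rintro rfl
      have h1 : (A - 1) * P = P * (nn 1 d - 1) := by
        rw [Matrix.sub_mul, Matrix.mul_sub, e, Matrix.one_mul, Matrix.mul_one]
      have h2 : (A - 1).rank = (nn 1 d - 1 : Matrix (Fin 3) (Fin 3) F).rank := by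
        rw [← rank_mul_eq_left_of_isUnit_det P (A - 1) hu, h1, rank_mul_eq_right_of_isUnit_det _ _ hu]
      have h3 : (nn 1 d - 1 : Matrix (Fin 3) (Fin 3) F) = vecMulVec ![1, 0, 0] ![d, 1, 0] := by
        ext i j
        fin_cases i <;> fin_cases j <;> simp [nn, vecMulVec]
      have h4 := rank_vecMulVec_le (![1, 0, 0] : Fin 3 → F) ![d, 1, 0]
      rw [h2, h3] at hr
      omega
    exact Goal.of_sim ⟨P, hP, e⟩ (goal_nn hs hd hl)

end Cfsg.Agent.H140.OreO.GL3
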