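import Mathlib
import Cfsg.Agent.H140.OreO.Cls

/-!
# The STEP theorem

`Cop X h` : no nonzero intertwiners, so that `lev X h` has no fixed points on `U⁻`, `U⁺`; hence every
element of `U^±` is a commutator `v l v⁻¹ l⁻¹`, and `u l ~ l`.
-/

set_option autoImplicit false
set_option linter.unusedSectionVars false
set_option linter.unusedSimpArgs false
set_option linter.unusedVariables false

namespace Cfsg.Agent.H140.OreO

open QuadraticMap Cfsg.Agent.LieClassical.OrthCore Cfsg.Agent.LieClassical.OrthTrans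
  Cfsg.Agent.LieClassical.OrthFinite Matrix
open scoped commutatorElement

variable {F V : Type*} [Field F] [AddCommGroup V] [Module F V] {n : ℕ} {Q : QuadraticForm F V}

theorem exists_comm {G : Type*} [Group G] (U : Subgroup G) [Finite U] (l : G)
    (hn : ∀ u ∈ U, l * u * l⁻¹ ∈ U) (hc : ∀ u ∈ U, u * l = l * u → u = 1) {u : G} (hu : u ∈ U) :
    ∃ v ∈ U, u = v * l * v⁻¹ * l⁻¹ := by
  let φ : U → U := fun v => ⟨(v : G) * (l * (v : G)⁻¹ * l⁻¹),
    U.mul_mem v.2 (hn _ (U.inv_mem v.2))⟩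
  have hφ : Function.Injective φ := by
    intro v w h
    have h1 : (v : G) * (l * (v : G)⁻¹ * l⁻¹) = (w : G) * (l * (w : G)⁻¹ * l⁻¹) :=
      congrArg Subtype.val h
    have h2 : (w : G)⁻¹ * v * l = l * ((w : G)⁻¹ * v) := by
      have h3 : (v : G) * l * (v : G)⁻¹ = (w : G) * l * (w : G)⁻¹ := by
        have := congrArg (· * l) h1
        simpa [mul_assoc] using this
      calc (w : G)⁻¹ * v * l = (w : G)⁻¹ * (v * l * (v : G)⁻¹) * v := by group
        _ = (w : G)⁻¹ * (w * l * (w : G)⁻¹) * v := by rw [h3]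
        _ = l * ((w : G)⁻¹ * v) := by group
    have h4 := hc _ (U.mul_mem (U.inv_mem w.2) v.2) h2
    apply Subtype.ext
    rw [inv_mul_eq_one] at h4
    exact h4.symm
  obtain ⟨v, hv⟩ := (Finite.injective_iff_surjective.1 hφ) ⟨u, hu⟩
  refine ⟨v, v.2, ?_⟩
  have : (v : G) * (l * (v : G)⁻¹ * l⁻¹) = u := congrArg Subtype.val hv
  rw [← this]
  group

/-- No nonzero intertwiners. -/
structure Cop (X : GL (Fin n) F) (h : V ≃ₗ[F] V) : Prop where
  a : ∀ f : (Fin n → F) →ₗ[F] V,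
    (∀ a, f ((X : Matrix (Fin n) (Fin n) F) *ᵥ a) = h (f a)) → f = 0
  b : ∀ f : V →ₗ[F] (Fin n → F),
    (∀ v, f (h v) = (ti X : Matrix (Fin n) (Fin n) F) *ᵥ f v) → f = 0
  c : ∀ f : (Fin n → F) →ₗ[F] (Fin n → F), (∀ a, a ⬝ᵥ f a = 0) →
    (∀ a, f ((X : Matrix (Fin n) (Fin n) F) *ᵥ a) = (ti X : Matrix (Fin n) (Fin n) F) *ᵥ f a) →
    f = 0
  a' : ∀ f : (Fin n → F) →ₗ[F] V,
    (∀ a, f ((ti X : Matrix (Fin n) (Fin n) F) *ᵥ a) = h (f a)) → f = 0
  b' : ∀ f : V →ₗ[F] (Fin n → F),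
    (∀ v, f (h v) = (X : Matrix (Fin n) (Fin n) F) *ᵥ f v) → f = 0
  c' : ∀ f : (Fin n → F) →ₗ[F] (Fin n → F), (∀ a, a ⬝ᵥ f a = 0) →
    (∀ a, f ((ti X : Matrix (Fin n) (Fin n) F) *ᵥ a) = (X : Matrix (Fin n) (Fin n) F) *ᵥ f a) →
    f = 0

theorem Cop.um {X : GL (Fin n) F} {h : V ≃ₗ[F] V} (hc : Cop X h) {u : M F V n ≃ₗ[F] M F V n}
    (hu : u ∈ Um n Q) (hcomm : u * lev X h = lev X h * u) : u = 1 := by
  have hx : ∀ x, u (lev X h x) = lev X h (u x) := fun x => LinearEquiv.congr_fun hcomm x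
  let f1 : (Fin n → F) →ₗ[F] V := LinearMap.fst F V (Fin n → F) ∘ₗ LinearMap.snd F _ _ ∘ₗ
    (u : M F V n →ₗ[F] M F V n) ∘ₗ LinearMap.inl F (Fin n → F) (V × (Fin n → F))
  let f3 : (Fin n → F) →ₗ[F] (Fin n → F) := LinearMap.snd F V (Fin n → F) ∘ₗ LinearMap.snd F _ _ ∘ₗ
    (u : M F V n →ₗ[F] M F V n) ∘ₗ LinearMap.inl F (Fin n → F) (V × (Fin n → F))
  let f2 : V →ₗ[F] (Fin n → F) := LinearMap.snd F V (Fin n → F) ∘ₗ LinearMap.snd F _ _ ∘ₗ
    (u : M F V n →ₗ[F] M F V n) ∘ₗ LinearMap.inr F (Fin n → F) (V × (Fin n → F)) ∘ₗ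
    LinearMap.inl F V (Fin n → F)
  have e1 : f1 = 0 := by
    apply hc.a
    intro a
    have := hx (a, 0, 0)
    rw [lev_apply, lev_apply] at this
    simp only [mulVec_zero, map_zero] at this
    exact congrArg (fun y => y.2.1) this
  have e2 : f2 = 0 := by
    apply hc.b
    intro v
    have := hx (0, v, 0)
    rw [lev_apply, lev_apply] at this
    simp only [mulVec_zero, map_zero] at this
    exact congrArg (fun y => y.2.2) this
  have e1' : ∀ a, (u (a, 0, 0)).2.1 = 0 := fun a => LinearMap.congr_fun e1 a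
  have e2' : ∀ v, (u (0, v, 0)).2.2 = 0 := fun v => LinearMap.congr_fun e2 v
  have e3 : f3 = 0 := by
    apply hc.c
    · intro a
      have h1 := mem_O.1 hu.1 (a, 0, 0)
      rw [MQ_apply, MQ_apply', hu.2.1, e1'] at h1
      show a ⬝ᵥ (u (a, 0, 0)).2.2 = 0
      simpa using h1
    · intro a
      have := hx (a, 0, 0)
      rw [lev_apply, lev_apply] at this
      simp only [mulVec_zero, map_zero] at this
      exact congrArg (fun y => y.2.2) this
  have e3' : ∀ a, (u (a, 0, 0)).2.2 = 0 := fun a => LinearMap.congr_fun e3 a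
  apply LinearEquiv.ext
  intro x
  have hd : x = (x.1, 0, 0) + ((0, x.2.1, 0) + (0, 0, x.2.2)) := by
    refine Prod.ext (by simp) (Prod.ext (by simp) (by simp))
  have h1 : u (x.1, 0, 0) = (x.1, 0, 0) :=
    Prod.ext (hu.2.1 _) (Prod.ext (e1' _) (e3' _))
  have h2 : u (0, x.2.1, 0) = (0, x.2.1, 0) :=
    Prod.ext (hu.2.1 _) (Prod.ext (hu.2.2.1 _ rfl) (e2' _))
  have h3 : u (0, 0, x.2.2) = (0, 0, x.2.2) := hu.2.2.2 _ rfl rfl
  conv_lhs => rw [hd, map_add, map_add, h1, h2, h3, ← hd]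
  rfl

theorem Cop.up {X : GL (Fin n) F} {h : V ≃ₗ[F] V} (hc : Cop X h) {u : M F V n ≃ₗ[F] M F V n}
    (hu : u ∈ Up n Q) (hcomm : u * lev X h = lev X h * u) : u = 1 := by
  have hx : ∀ x, u (lev X h x) = lev X h (u x) := fun x => LinearEquiv.congr_fun hcomm x
  let f1 : (Fin n → F) →ₗ[F] V := LinearMap.fst F V (Fin n → F) ∘ₗ LinearMap.snd F _ _ ∘ₗ
    (u : M F V n →ₗ[F] M F V n) ∘ₗ LinearMap.inr F (Fin n → F) (V × (Fin n → F)) ∘ₗ
    LinearMap.inr F V (Fin n → F)
  let f3 : (Fin n → F) →ₗ[F] (Fin n → F) := LinearMap.fst F (Fin n → F) (V × (Fin n → F)) ∘ₗ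
    (u : M F V n →ₗ[F] M F V n) ∘ₗ LinearMap.inr F (Fin n → F) (V × (Fin n → F)) ∘ₗ
    LinearMap.inr F V (Fin n → F)
  let f2 : V →ₗ[F] (Fin n → F) := LinearMap.fst F (Fin n → F) (V × (Fin n → F)) ∘ₗ
    (u : M F V n →ₗ[F] M F V n) ∘ₗ LinearMap.inr F (Fin n → F) (V × (Fin n → F)) ∘ₗ
    LinearMap.inl F V (Fin n → F)
  have e1 : f1 = 0 := by
    apply hc.a'
    intro a
    have := hx (0, 0, a)
    rw [lev_apply, lev_apply] at this
    simp only [mulVec_zero, map_zero] at this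
    exact congrArg (fun y => y.2.1) this
  have e2 : f2 = 0 := by
    apply hc.b'
    intro v
    have := hx (0, v, 0)
    rw [lev_apply, lev_apply] at this
    simp only [mulVec_zero, map_zero] at this
    exact congrArg (fun y => y.1) this
  have e1' : ∀ a, (u (0, 0, a)).2.1 = 0 := fun a => LinearMap.congr_fun e1 a
  have e2' : ∀ v, (u (0, v, 0)).1 = 0 := fun v => LinearMap.congr_fun e2 v
  have e3 : f3 = 0 := by
    apply hc.c'
    · intro a
      have h1 := mem_O.1 hu.1 (0, 0, a)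
      rw [MQ_apply, MQ_apply', hu.2.1, e1', dotProduct_comm] at h1
      show a ⬝ᵥ (u (0, 0, a)).1 = 0
      simpa using h1
    · intro a
      have := hx (0, 0, a)
      rw [lev_apply, lev_apply] at this
      simp only [mulVec_zero, map_zero] at this
      exact congrArg (fun y => y.1) this
  have e3' : ∀ a, (u (0, 0, a)).1 = 0 := fun a => LinearMap.congr_fun e3 a
  apply LinearEquiv.ext
  intro x
  have hd : x = (x.1, 0, 0) + ((0, x.2.1, 0) + (0, 0, x.2.2)) := by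
    refine Prod.ext (by simp) (Prod.ext (by simp) (by simp))
  have h1 : u (0, 0, x.2.2) = (0, 0, x.2.2) :=
    Prod.ext (e3' _) (Prod.ext (e1' _) (hu.2.1 _))
  have h2 : u (0, x.2.1, 0) = (0, x.2.1, 0) :=
    Prod.ext (e2' _) (Prod.ext (hu.2.2.1 _ rfl) (hu.2.1 _))
  have h3 : u (x.1, 0, 0) = (x.1, 0, 0) := hu.2.2.2 _ rfl rfl
  conv_lhs => rw [hd, map_add, map_add, h1, h2, h3, ← hd]
  rfl

section Fin

variable [Finite F] [FiniteDimensional F V]

theorem finite_subgroup (U : Subgroup (M F V n ≃ₗ[F] M F V n)) : Finite U := by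
  have : Finite V := Module.finite_of_finite F
  have : Finite (M F V n) := inferInstance
  have : Finite (M F V n ≃ₗ[F] M F V n) :=
    Finite.of_injective (fun g => (g : M F V n → M F V n)) DFunLike.coe_injective
  infer_instance

theorem Cop.exists_um {X : GL (Fin n) F} {h : V ≃ₗ[F] V} (hc : Cop X h) (hh : h ∈ O Q)
    {u : M F V n ≃ₗ[F] M F V n} (hu : u ∈ Um n Q) :
    ∃ v ∈ Um n Q, v ∈ Om (MQ n Q) ∧ u * lev X h = v * lev X h * v⁻¹ := by
  have := finite_subgroup (Um n Q)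
  have key : ∀ u ∈ Um n Q, ∃ v ∈ Um n Q, u = v * lev X h * v⁻¹ * (lev X h)⁻¹ := fun u hu =>
    exists_comm (Um n Q) (lev X h) (fun u hu => lev_conj_Um hh hu) (fun u hu => hc.um hu) hu
  have hOm : ∀ u ∈ Um n Q, u ∈ Om (MQ n Q) := fun u hu => by
    obtain ⟨v, hv, rfl⟩ := key u hu
    exact comm_mem_Om hv.1 (lev_mem hh)
  obtain ⟨v, hv, e⟩ := key u hu
  exact ⟨v, hv, hOm v hv, by rw [e]; group⟩

theorem Cop.exists_up {X : GL (Fin n) F} {h : V ≃ₗ[F] V} (hc : Cop X h) (hh : h ∈ O Q)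
    {u : M F V n ≃ₗ[F] M F V n} (hu : u ∈ Up n Q) :
    ∃ v ∈ Up n Q, v ∈ Om (MQ n Q) ∧ u * lev X h = v * lev X h * v⁻¹ := by
  have := finite_subgroup (Up n Q)
  have key : ∀ u ∈ Up n Q, ∃ v ∈ Up n Q, u = v * lev X h * v⁻¹ * (lev X h)⁻¹ := fun u hu =>
    exists_comm (Up n Q) (lev X h) (fun u hu => lev_conj_Up hh hu) (fun u hu => hc.up hu) hu
  have hOm : ∀ u ∈ Up n Q, u ∈ Om (MQ n Q) := fun u hu => by
    obtain ⟨v, hv, rfl⟩ := key u hu
    exact comm_mem_Om hv.1 (lev_mem hh)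
  obtain ⟨v, hv, e⟩ := key u hu
  exact ⟨v, hv, hOm v hv, by rw [e]; group⟩

/-- **STEP.** -/
theorem step {A X Y K : GL (Fin n) F} {g₁ x y k : V ≃ₗ[F] V} {u₁ u₂ : M F V n ≃ₗ[F] M F V n}
    (hu₁ : u₁ ∈ Um n Q) (hu₂ : u₂ ∈ Up n Q) (hA : A = X * Y⁻¹) (hX : X = K * Y * K⁻¹)
    (hg : g₁ = x * y⁻¹) (hx : x = k * y * k⁻¹) (hyO : y ∈ O Q) (hkO : k ∈ O Q)
    (hXx : Cop X x) (hYy : Cop Y y) (hK : lev K k ∈ Om (MQ n Q)) :
    ∃ κ ∈ Om (MQ n Q), ∃ v ∈ Om (MQ n Q),
      u₁ * lev A g₁ * u₂ = κ * (v * lev Y y * v⁻¹) * κ⁻¹ * (v * lev Y y * v⁻¹)⁻¹ := by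
  have hxO : x ∈ O Q := by
    rw [hx]; exact (O Q).mul_mem ((O Q).mul_mem hkO hyO) ((O Q).inv_mem hkO)
  obtain ⟨v₁, hv₁, hv₁', e₁⟩ := hXx.exists_um hxO hu₁
  obtain ⟨v₂, hv₂, hv₂', e₂⟩ := hYy.exists_up hyO ((Up n Q).inv_mem hu₂)
  refine ⟨v₁ * lev K k * v₂⁻¹, ?_, v₂, hv₂', ?_⟩
  · exact (Om _).mul_mem ((Om _).mul_mem hv₁' hK) ((Om _).inv_mem hv₂')
  · have e3 : lev X x = lev K k * lev Y y * (lev K k)⁻¹ := by
      rw [hX, hx, lev_mul, lev_mul, lev_inv]
    have e4 : lev A g₁ = lev X x * (lev Y y)⁻¹ := by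
      rw [hA, hg, lev_mul, lev_inv]
    have e5 : u₁ * lev A g₁ * u₂ = (u₁ * lev X x) * (u₂⁻¹ * lev Y y)⁻¹ := by
      rw [e4]; group
    rw [e5, e₁, e₂, e3]
    group

end Fin

/-! ### A criterion for `Cop` -/

open Polynomial

theorem intertwine {U W : Type*} [AddCommGroup U] [Module F U] [AddCommGroup W] [Module F W]
    (f : U →ₗ[F] W) (α : Module.End F U) (β : Module.End F W) (hf : ∀ a, f (α a) = β (f a))
    (p : F[X]) : ∀ a, f (aeval α p a) = aeval β p (f a) := by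
  induction p using Polynomial.induction_on' with
  | add p q hp hq => intro a; simp only [map_add, LinearMap.add_apply, hp, hq]
  | monomial k c =>
    have : ∀ k : ℕ, ∀ a, f ((α ^ k) a) = (β ^ k) (f a) := by
      intro k
      induction k with
      | zero => intro a; simp
      | succ k ih => intro a; rw [pow_succ', pow_succ', Module.End.mul_apply,
          Module.End.mul_apply, hf, ih]
    intro a
    simp only [aeval_monomial, Module.End.mul_apply, Module.algebraMap_end_apply, map_smul, this]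

theorem inj_of_unit {W : Type*} [AddCommGroup W] [Module F W] {β : Module.End F W}
    (hβ : IsUnit β) (w : W) (hw : β w = 0) : w = 0 := by
  obtain ⟨u, rfl⟩ := hβ
  have : ((u⁻¹ : (Module.End F W)ˣ) : Module.End F W) ((u : Module.End F W) w) = 0 := by
    rw [hw, map_zero]
  rwa [← Module.End.mul_apply, Units.inv_mul, Module.End.one_apply] at this

theorem surj_of_unit {W : Type*} [AddCommGroup W] [Module F W] {β : Module.End F W}
    (hβ : IsUnit β) (w : W) : ∃ w', β w' = w := by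
  obtain ⟨u, rfl⟩ := hβ
  refine ⟨((u⁻¹ : (Module.End F W)ˣ) : Module.End F W) w, ?_⟩
  rw [← Module.End.mul_apply, Units.mul_inv, Module.End.one_apply]

theorem aeval_toLin' (A : Matrix (Fin n) (Fin n) F) (p : F[X]) :
    aeval (Matrix.toLin' A) p = Matrix.toLin' (aeval A p) :=
  Polynomial.aeval_algHom_apply (Matrix.toLinAlgEquiv' (R := F) (n := Fin n)).toAlgHom A p

/-- Polynomial criterion. -/
theorem cop_of {X : GL (Fin n) F} {h : V ≃ₗ[F] V} (P P' : F[X])
    (hP : aeval (X : Matrix (Fin n) (Fin n) F) P = 0)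
    (hP' : aeval (ti X : Matrix (Fin n) (Fin n) F) P' = 0)
    (h1 : IsUnit (aeval (h : Module.End F V) P)) (h2 : IsUnit (aeval (h : Module.End F V) P'))
    (h3 : IsCoprime P P') : Cop X h := by
  have hPX : aeval (Matrix.toLin' (X : Matrix (Fin n) (Fin n) F)) P = 0 := by
    rw [aeval_toLin', hP, map_zero]
  have hPX' : aeval (Matrix.toLin' (ti X : Matrix (Fin n) (Fin n) F)) P' = 0 := by
    rw [aeval_toLin', hP', map_zero]
  obtain ⟨r, s, hrs⟩ := h3
  have c3 : ∀ (A : Matrix (Fin n) (Fin n) F) , aeval (Matrix.toLin' A) P' = 0 → ∀ w,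
      aeval (Matrix.toLin' A) P w = 0 → w = 0 := by
    intro A hA w hw
    have := congrArg (fun p => aeval (Matrix.toLin' A) p w) hrs
    simp only [map_add, map_mul, map_one, LinearMap.add_apply, Module.End.mul_apply, hw, hA,
      mul_zero, LinearMap.zero_apply, map_zero, add_zero, Module.End.one_apply] at this
    exact this.symm
  have c4 : ∀ (A : Matrix (Fin n) (Fin n) F) , aeval (Matrix.toLin' A) P = 0 → ∀ w,
      aeval (Matrix.toLin' A) P' w = 0 → w = 0 := by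
    intro A hA w hw
    have := congrArg (fun p => aeval (Matrix.toLin' A) p w) hrs
    simp only [map_add, map_mul, map_one, LinearMap.add_apply, Module.End.mul_apply, hw, hA,
      mul_zero, LinearMap.zero_apply, map_zero, zero_add, Module.End.one_apply] at this
    exact this.symm
  refine ⟨fun f hf => ?_, fun f hf => ?_, fun f _ hf => ?_, fun f hf => ?_, fun f hf => ?_,
    fun f _ hf => ?_⟩
  · apply LinearMap.ext
    intro a
    apply inj_of_unit h1
    have := intertwine f (Matrix.toLin' (X : Matrix (Fin n) (Fin n) F)) (h : Module.End F V) hf P a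
    rw [← this, hPX, LinearMap.zero_apply, map_zero]
  · apply LinearMap.ext
    intro v
    obtain ⟨w, rfl⟩ := surj_of_unit h2 v
    have := intertwine f (h : Module.End F V) (Matrix.toLin' (ti X : Matrix (Fin n) (Fin n) F)) hf P' w
    rw [this, hPX', LinearMap.zero_apply, LinearMap.zero_apply]
  · apply LinearMap.ext
    intro a
    have := intertwine f (Matrix.toLin' (X : Matrix (Fin n) (Fin n) F))
      (Matrix.toLin' (ti X : Matrix (Fin n) (Fin n) F)) hf P a
    rw [hPX, LinearMap.zero_apply, map_zero] at this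
    exact c3 _ hPX' _ this.symm
  · apply LinearMap.ext
    intro a
    apply inj_of_unit h2
    have := intertwine f (Matrix.toLin' (ti X : Matrix (Fin n) (Fin n) F)) (h : Module.End F V) hf P' a
    rw [← this, hPX', LinearMap.zero_apply, map_zero]
  · apply LinearMap.ext
    intro v
    obtain ⟨w, rfl⟩ := surj_of_unit h1 v
    have := intertwine f (h : Module.End F V) (Matrix.toLin' (X : Matrix (Fin n) (Fin n) F)) hf P w
    rw [this, hPX, LinearMap.zero_apply, LinearMap.zero_apply]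
  · apply LinearMap.ext
    intro a
    have := intertwine f (Matrix.toLin' (ti X : Matrix (Fin n) (Fin n) F))
      (Matrix.toLin' (X : Matrix (Fin n) (Fin n) F)) hf P' a
    rw [hPX', LinearMap.zero_apply, map_zero] at this
    exact c4 _ hPX _ this.symm

end Cfsg.Agent.H140.OreO
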