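import Mathlib
import Cfsg.Agent.H140.OreO.Step

/-!
# Polynomials: units, reciprocal polynomials, existence of good irreducible polynomials
-/

set_option autoImplicit false
set_option linter.unusedSectionVars false
set_option linter.unusedSimpArgs false
set_option linter.unusedVariables false

namespace Cfsg.Agent.H140.OreO

open Polynomial Matrix QuadraticMap Cfsg.Agent.LieClassical.OrthCore

variable {F V : Type*} [Field F] [AddCommGroup V] [Module F V] {n : ℕ}

/-- `c(φ)` is invertible. -/
def Un (φ : Module.End F V) (c : F[X]) : Prop := IsUnit (aeval φ c)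

theorem un_of_dvd {φ : Module.End F V} {c d : F[X]} (h : Un φ d) (hcd : c ∣ d) : Un φ c := by
  obtain ⟨e, rfl⟩ := hcd
  obtain ⟨u, hu⟩ := h
  rw [map_mul] at hu
  refine ⟨⟨aeval φ c, aeval φ e * (u⁻¹ : (Module.End F V)ˣ), ?_, ?_⟩, rfl⟩
  · rw [← mul_assoc, ← hu, Units.mul_inv]
  · have h1 : aeval φ e * aeval φ c = u := by rw [hu, ← map_mul, ← map_mul, mul_comm]
    have h2 : ∀ a : Module.End F V, (∀ p : F[X], a * aeval φ p = aeval φ p * a) →
        True := fun _ _ => trivial
    -- `u⁻¹` commutes with `c(φ)`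
    have h3 : (u : Module.End F V) * aeval φ c = aeval φ c * u := by
      rw [hu, ← map_mul, ← map_mul, ← map_mul]
      congr 1; ring
    have h4 : ((u⁻¹ : (Module.End F V)ˣ) : Module.End F V) * aeval φ c =
        aeval φ c * ((u⁻¹ : (Module.End F V)ˣ) : Module.End F V) := by
      rw [Units.inv_mul_eq_iff_eq_mul, ← mul_assoc, h3, mul_assoc, Units.mul_inv, mul_one]
    rw [mul_assoc, h4, ← mul_assoc, h1, Units.mul_inv]

theorem un_of_coprime {φ : Module.End F V} {c P : F[X]} (hP : aeval φ P = 0) (h : IsCoprime c P) :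
    Un φ c := by
  obtain ⟨r, s, hrs⟩ := h
  have h1 : aeval φ r * aeval φ c = 1 := by
    have := congrArg (aeval φ) hrs
    simpa [hP] using this
  have h2 : aeval φ c * aeval φ r = 1 := by
    rw [← map_mul, mul_comm, map_mul, h1]
  exact ⟨⟨_, _, h2, h1⟩, rfl⟩

theorem Un.of_coprime_mat {A : Matrix (Fin n) (Fin n) F} {c P : F[X]} (hP : aeval A P = 0)
    (h : IsCoprime c P) : Un (Matrix.toLin' A) c :=
  un_of_coprime (by rw [aeval_toLin', hP, map_zero]) h

theorem Un.conj {φ ψ : Module.End F V} {c : F[X]} (h : Un φ c) (g : V ≃ₗ[F] V)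
    (hg : ∀ v, ψ (g v) = g (φ v)) : Un ψ c := by
  have e : ∀ v, aeval ψ c (g v) = g (aeval φ c v) := fun v =>
    (intertwine (g : V →ₗ[F] V) φ ψ (fun v => (hg v).symm) c v).symm
  obtain ⟨u, hu⟩ := h
  refine ⟨⟨aeval ψ c, (g : Module.End F V) * (u⁻¹ : (Module.End F V)ˣ) * (g.symm : Module.End F V),
    ?_, ?_⟩, rfl⟩
  · apply LinearMap.ext
    intro v
    show aeval ψ c (g (((u⁻¹ : (Module.End F V)ˣ) : Module.End F V) (g.symm v))) = v
    rw [e, ← hu, ← Module.End.mul_apply, Units.mul_inv, Module.End.one_apply,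
      LinearEquiv.apply_symm_apply]
  · apply LinearMap.ext
    intro v
    obtain ⟨w, rfl⟩ := g.surjective v
    show g (((u⁻¹ : (Module.End F V)ˣ) : Module.End F V) (g.symm (aeval ψ c (g w)))) = g w
    rw [e, LinearEquiv.symm_apply_apply, ← hu, ← Module.End.mul_apply, Units.inv_mul,
      Module.End.one_apply]

/-- Conjugates. -/
theorem Un.conj' {y : V ≃ₗ[F] V} {c : F[X]} (h : Un (y : Module.End F V) c) (g : V ≃ₗ[F] V) :
    Un ((g * y * g⁻¹ : V ≃ₗ[F] V) : Module.End F V) c := by
  refine h.conj g fun v => ?_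
  show g (y (g.symm (g v))) = g (y v)
  rw [LinearEquiv.symm_apply_apply]

theorem un_of_injective [FiniteDimensional F V] {φ : Module.End F V} {c : F[X]}
    (h : ∀ v, aeval φ c v = 0 → v = 0) : Un φ c := by
  rw [Un, LinearMap.isUnit_iff_ker_eq_bot, LinearMap.ker_eq_bot']
  exact h

/-- Levi elements. -/
theorem un_lev [FiniteDimensional F V] {A : GL (Fin n) F} {h : V ≃ₗ[F] V} {c : F[X]}
    (h1 : Un (Matrix.toLin' (A : Matrix (Fin n) (Fin n) F)) c) (h2 : Un (h : Module.End F V) c)
    (h3 : Un (Matrix.toLin' (ti A : Matrix (Fin n) (Fin n) F)) c) :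
    Un ((lev A h : M F V n ≃ₗ[F] M F V n) : Module.End F (M F V n)) c := by
  apply un_of_injective
  intro x hx
  have e1 := intertwine (LinearMap.fst F (Fin n → F) (V × (Fin n → F)))
    ((lev A h : M F V n ≃ₗ[F] M F V n) : Module.End F (M F V n))
    (Matrix.toLin' (A : Matrix (Fin n) (Fin n) F)) (fun a => rfl) c x
  have e2 := intertwine (LinearMap.fst F V (Fin n → F) ∘ₗ
      LinearMap.snd F (Fin n → F) (V × (Fin n → F)))
    ((lev A h : M F V n ≃ₗ[F] M F V n) : Module.End F (M F V n))
    (h : Module.End F V) (fun a => rfl) c x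
  have e3 := intertwine (LinearMap.snd F V (Fin n → F) ∘ₗ
      LinearMap.snd F (Fin n → F) (V × (Fin n → F)))
    ((lev A h : M F V n ≃ₗ[F] M F V n) : Module.End F (M F V n))
    (Matrix.toLin' (ti A : Matrix (Fin n) (Fin n) F)) (fun a => rfl) c x
  rw [hx, map_zero] at e1 e2 e3
  exact Prod.ext (inj_of_unit h1 _ e1.symm) (Prod.ext (inj_of_unit h2 _ e2.symm)
    (inj_of_unit h3 _ e3.symm))

/-! ### Reciprocal polynomials -/

theorem aeval_ti_reverse (A : GL (Fin n) F) :
    aeval (ti A : Matrix (Fin n) (Fin n) F)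
      (A : Matrix (Fin n) (Fin n) F).charpoly.reverse = 0 := by
  have hA : IsUnit (A : Matrix (Fin n) (Fin n) F) := A.isUnit
  have h1 := Matrix.charpoly_inv (A : Matrix (Fin n) (Fin n) F) hA
  have h2 := Matrix.aeval_self_charpoly (((A : Matrix (Fin n) (Fin n) F))⁻¹)
  rw [h1, map_mul, ← Matrix.reverse_charpoly] at h2
  have hd : (A : Matrix (Fin n) (Fin n) F).det ≠ 0 := (Matrix.isUnit_iff_isUnit_det _).1 hA |>.ne_zero
  have h3 : IsUnit (aeval (((A : Matrix (Fin n) (Fin n) F))⁻¹)
      ((-1) ^ Fintype.card (Fin n) * C (Ring.inverse (A : Matrix (Fin n) (Fin n) F).det))) := by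
    apply IsUnit.map
    apply IsUnit.mul
    · exact (isUnit_one.neg).pow _
    · rw [isUnit_C, Ring.inverse_eq_inv']
      exact (inv_ne_zero hd).isUnit
  have h4 : aeval (((A : Matrix (Fin n) (Fin n) F))⁻¹)
      (A : Matrix (Fin n) (Fin n) F).charpoly.reverse = 0 := by
    rwa [h3.mul_right_eq_zero] at h2
  have h5 : (ti A : Matrix (Fin n) (Fin n) F) = ((A : Matrix (Fin n) (Fin n) F)⁻¹)ᵀ := by
    rw [ti_coe, ← coe_units_inv]
  rw [h5]
  have h6 : ∀ (B : Matrix (Fin n) (Fin n) F) (p : F[X]), aeval Bᵀ p = (aeval B p)ᵀ := by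
    intro B p
    induction p using Polynomial.induction_on' with
    | add p q hp hq => rw [map_add, map_add, hp, hq, transpose_add]
    | monomial k a => simp [aeval_monomial, transpose_mul, transpose_pow,
        Algebra.algebraMap_eq_smul_one]
  rw [h6, h4, transpose_zero]

/-- The matrix conditions for a block. -/
theorem cop_of_charpoly {X : GL (Fin n) F} {h : V ≃ₗ[F] V}
    (h1 : Un (h : Module.End F V) (X : Matrix (Fin n) (Fin n) F).charpoly)
    (h2 : Un (h : Module.End F V) (X : Matrix (Fin n) (Fin n) F).charpoly.reverse)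
    (h3 : IsCoprime (X : Matrix (Fin n) (Fin n) F).charpoly
      (X : Matrix (Fin n) (Fin n) F).charpoly.reverse) : Cop X h :=
  cop_of _ _ (aeval_self_charpoly _) (aeval_ti_reverse X) h1 h2 h3

theorem exists_matrix {m : ℕ} (c : F[X]) (hc : c.Monic) (h0 : c.coeff 0 ≠ 0)
    (hm : c.natDegree = m) :
    ∃ X : GL (Fin m) F, (X : Matrix (Fin m) (Fin m) F).charpoly = c := by
  have hc0 : c ≠ 0 := hc.ne_zero
  let pb := AdjoinRoot.powerBasis hc0
  have hdim : pb.dim = m := by rw [← hm]; exact AdjoinRoot.powerBasis_dim hc0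
  have h1 : (Algebra.leftMulMatrix pb.basis pb.gen).charpoly = c := by
    rw [charpoly_leftMulMatrix]
    exact AdjoinRoot.minpoly_powerBasis_gen_of_monic hc
  subst hdim
  have hdet : (Algebra.leftMulMatrix pb.basis pb.gen).det ≠ 0 := by
    rw [det_eq_sign_charpoly_coeff, h1]
    exact mul_ne_zero (pow_ne_zero _ (neg_ne_zero.2 one_ne_zero)) h0
  exact ⟨Matrix.GeneralLinearGroup.mkOfDetNeZero _ hdet, h1⟩

/-! ### Existence of irreducible polynomials prime to their reciprocals -/

/-- `c` is monic, irreducible of degree `m`, and prime to its reciprocal. -/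
structure GoodPoly (m : ℕ) (c : F[X]) : Prop where
  monic : c.Monic
  irr : Irreducible c
  deg : c.natDegree = m
  cop : IsCoprime c c.reverse

theorem coeff_zero_ne {c : F[X]} (hc : Irreducible c) (hd : 2 ≤ c.natDegree) : c.coeff 0 ≠ 0 := by
  intro h
  have h1 : X ∣ c := X_dvd_iff.2 h
  obtain ⟨d, hd'⟩ := h1
  rcases hc.isUnit_or_isUnit hd' with h2 | h2
  · exact not_isUnit_X h2
  · have : c.natDegree ≤ 1 := by
      rw [hd']
      refine le_trans natDegree_mul_le ?_
      rw [natDegree_X, natDegree_eq_zero_of_isUnit h2]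
    omega

theorem isCoprime_of_root {K : Type*} [Field K] [Algebra F K] {c p : F[X]} (hc : Irreducible c)
    {a : K} (ha : aeval a c = 0) (hp : aeval a p ≠ 0) : IsCoprime c p := by
  rw [hc.coprime_iff_not_dvd]
  rintro ⟨d, rfl⟩
  apply hp
  rw [map_mul, ha, zero_mul]

theorem aeval_reverse_ne {K : Type*} [Field K] [Algebra F K] {c : F[X]} {a : K} (ha0 : a ≠ 0)
    (h : aeval a⁻¹ c ≠ 0) : aeval a c.reverse ≠ 0 := by
  intro h1
  apply h
  have : Invertible a⁻¹ := invertibleOfNonzero (inv_ne_zero ha0)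
  have h2 := (eval₂_reverse_eq_zero_iff (algebraMap F K) a⁻¹ c).1
  apply h2
  rw [invOf_eq_inv, inv_inv]
  exact h1

theorem exists_gen (F : Type*) [Field F] [Finite F] (n : ℕ) (hn : n ≠ 0) :
    ∃ (K : Type) (_ : Field K) (_ : Algebra F K) (_ : FiniteDimensional F K) (_ : Finite K),
      Module.finrank F K = n ∧ Nat.card K = Nat.card F ^ n := by
  have : NeZero n := ⟨hn⟩
  obtain ⟨p, hp⟩ := CharP.exists F
  have : Fact p.Prime := ⟨CharP.char_is_prime F p⟩
  exact ⟨FiniteField.Extension F p n, inferInstance, inferInstance, inferInstance, inferInstance,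
    FiniteField.finrank_extension F p n, FiniteField.natCard_extension F p n⟩

/-- Existence of good polynomials: minimal polynomials of generators. -/
theorem exists_good_gen (F : Type*) [Field F] [Finite F] (m : ℕ) (hm : 2 ≤ m)
    (hq : 5 ≤ Nat.card F ^ m) : ∃ (K : Type) (_ : Field K) (_ : Algebra F K) (_ : Finite K) (u : Kˣ),
      Nat.card K = Nat.card F ^ m ∧ (∀ x, x ∈ Subgroup.zpowers u) ∧ GoodPoly m (minpoly F (u : K)) := by
  obtain ⟨K, _, _, _, _, hK, hcard⟩ := exists_gen F m (by omega)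
  obtain ⟨u, hu⟩ := IsCyclic.exists_generator (α := Kˣ)
  have hint : IsIntegral F (u : K) := Algebra.IsIntegral.isIntegral _
  have hadj : IntermediateField.adjoin F {(u : K)} = ⊤ := by
    rw [eq_top_iff]
    intro x _
    by_cases hx : x = 0
    · rw [hx]; exact zero_mem _
    · obtain ⟨k, hk⟩ := Subgroup.mem_zpowers_iff.1 (hu (Units.mk0 x hx))
      have h1 : x = (u : K) ^ k := by
        have := congrArg Units.val hk
        simpa using this.symm
      rw [h1]
      exact zpow_mem (IntermediateField.mem_adjoin_simple_self F (u : K)) k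
  have hdeg : (minpoly F (u : K)).natDegree = m := by
    rw [← IntermediateField.adjoin.finrank hint, hadj, IntermediateField.finrank_top', hK]
  have hroot : aeval (u : K) (minpoly F (u : K)) = 0 := minpoly.aeval _ _
  refine ⟨K, inferInstance, inferInstance, inferInstance, u, hcard, hu, minpoly.monic hint,
    minpoly.irreducible hint, hdeg, ?_⟩
  refine isCoprime_of_root (minpoly.irreducible hint) hroot (aeval_reverse_ne u.ne_zero ?_)
  intro h0
  -- `u⁻¹` would be a conjugate of `u`
  have hconj : IsConjRoot F (u : K) ((u : K)⁻¹) := by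
    exact minpoly.eq_of_irreducible_of_monic (minpoly.irreducible hint) h0
      (minpoly.monic hint)
  rw [isConjRoot_iff_exists_algEquiv] at hconj
  obtain ⟨σ, hσ⟩ := hconj
  have h2 : ∀ a : K, a ≠ 0 → σ a = a⁻¹ := by
    have hσu : σ (u : K) = ((u : K))⁻¹ := by
      have h3 : σ ((u : K)⁻¹) * σ (u : K) = 1 := by
        rw [← map_mul, inv_mul_cancel₀ u.ne_zero, map_one]
      rw [hσ] at h3
      exact (eq_inv_of_mul_eq_one_right h3)
    intro a ha
    obtain ⟨k, hk⟩ := Subgroup.mem_zpowers_iff.1 (hu (Units.mk0 a ha))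
    have h1 : a = (u : K) ^ k := by
      have := congrArg Units.val hk
      simpa using this.symm
    rw [h1, map_zpow₀, hσu, _root_.inv_zpow]
  have : Fintype K := Fintype.ofFinite _
  have h3 := Polynomial.eq_zero_of_natDegree_lt_card_of_eval_eq_zero
    (X * (X + 1) * (X ^ 2 + X + 1) : K[X]) Function.injective_id (by
      intro a
      simp only [id, eval_mul, eval_add, eval_X, eval_one, eval_pow]
      by_cases ha : a = 0
      · simp [ha]
      by_cases ha' : a + 1 = 0
      · simp [ha']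
      have h4 := h2 (a + 1) ha'
      rw [map_add, map_one, h2 a ha] at h4
      have h5 : a ^ 2 + a + 1 = 0 := by
        field_simp at h4
        linear_combination h4
      rw [h5, mul_zero]) (by
      have h4 : (X * (X + 1) * (X ^ 2 + X + 1) : K[X]).natDegree ≤ 4 := by
        compute_degree
      rw [Nat.card_eq_fintype_card] at hcard
      omega)
  have h4 : (X * (X + 1) * (X ^ 2 + X + 1) : K[X]).coeff 4 = 1 := by
    have : (X * (X + 1) * (X ^ 2 + X + 1) : K[X]) = X ^ 4 + C 2 * X ^ 3 + C 2 * X ^ 2 + X := by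
      simp only [map_ofNat]; ring
    rw [this]
    simp [coeff_X]
  rw [h3] at h4
  simp at h4

theorem exists_good (F : Type*) [Field F] [Finite F] (m : ℕ) (hm : 2 ≤ m)
    (hq : 5 ≤ Nat.card F ^ m) : ∃ c : F[X], GoodPoly m c := by
  obtain ⟨K, _, _, _, u, -, -, h⟩ := exists_good_gen F m hm hq
  exact ⟨_, h⟩

/-- A good quadratic polynomial with nonzero middle coefficient. -/
theorem exists_good_quad (F : Type*) [Field F] [Finite F] (hF : 3 ≤ Nat.card F) :
    ∃ c : F[X], GoodPoly 2 c ∧ c.coeff 1 ≠ 0 := by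
  obtain ⟨K, _, _, _, u, hcard, hu, h⟩ := exists_good_gen F 2 le_rfl (by nlinarith)
  refine ⟨_, h, fun h1 => ?_⟩
  have h2 : (u : K) ^ 2 = algebraMap F K (-(minpoly F (u : K)).coeff 0) := by
    have h3 := minpoly.aeval F (u : K)
    rw [aeval_eq_sum_range, h.deg] at h3
    have h4 : (minpoly F (u : K)).coeff 2 = 1 := by
      have := h.monic
      rw [Monic, leadingCoeff, h.deg] at this
      exact this
    simp only [Finset.sum_range_succ, Finset.sum_range_zero, h1, h4, zero_smul, one_smul,
      Algebra.smul_def, pow_zero, mul_one, zero_add, add_zero, map_zero, map_one, zero_mul,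
      one_mul] at h3
    rw [map_neg]
    linear_combination h3
  have h5 : (u : K) ^ (2 * (Nat.card F - 1)) = 1 := by
    have : Fintype F := Fintype.ofFinite F
    rw [pow_mul, h2, ← map_pow, Nat.card_eq_fintype_card, FiniteField.pow_card_sub_one_eq_one,
      map_one]
    intro h6
    rw [h6, map_zero] at h2
    exact u.ne_zero (pow_eq_zero_iff (by norm_num) |>.1 h2)
  have h6 : u ^ (2 * (Nat.card F - 1)) = 1 := Units.ext (by rw [Units.val_pow_eq_pow_val, h5]; rfl)
  have h7 : orderOf u = Nat.card Kˣ := orderOf_eq_card_of_forall_mem_zpowers hu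
  have h8 : Nat.card Kˣ = Nat.card F ^ 2 - 1 := by rw [Nat.card_units, hcard]
  have h9 := Nat.le_of_dvd (by omega) (orderOf_dvd_of_pow_eq_one h6)
  rw [h7, h8] at h9
  have h10 : Nat.card F ^ 2 = Nat.card F * Nat.card F := by ring
  have h11 : 3 * Nat.card F ≤ Nat.card F * Nat.card F := Nat.mul_le_mul_right _ hF
  omega

end Cfsg.Agent.H140.OreO
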