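import Mathlib
import Cfsg.Agent.H140.OreO.Poly

/-!
# Transport along isometries; blocks with corner `1`
-/

set_option autoImplicit false
set_option linter.unusedSectionVars false
set_option linter.unusedSimpArgs false
set_option linter.unusedVariables false

namespace Cfsg.Agent.H140.OreO

open Polynomial Matrix QuadraticMap Cfsg.Agent.LieClassical.OrthCore
  Cfsg.Agent.LieClassical.OrthTrans Cfsg.Agent.LieClassical.OrthFinite
open scoped commutatorElement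

variable {F V V' : Type*} [Field F] [AddCommGroup V] [Module F V] [AddCommGroup V'] [Module F V']
  {n : ℕ} {Q : QuadraticForm F V} {Q' : QuadraticForm F V'}

/-- Conjugation by a linear equivalence. -/
def autE (e : V ≃ₗ[F] V') : (V ≃ₗ[F] V) ≃* (V' ≃ₗ[F] V') where
  toFun := fun g => e.symm.trans (g.trans e)
  invFun := fun g => e.trans (g.trans e.symm)
  left_inv := fun g => by ext v; simp
  right_inv := fun g => by ext v; simp
  map_mul' := fun g h => by ext v; simp [LinearEquiv.mul_apply]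

theorem autE_apply (e : V ≃ₗ[F] V') (g : V ≃ₗ[F] V) (v : V') :
    autE e g v = e (g (e.symm v)) := rfl

theorem autE_apply' (e : V ≃ₗ[F] V') (g : V ≃ₗ[F] V) (v : V) :
    autE e g (e v) = e (g v) := by
  rw [autE_apply, LinearEquiv.symm_apply_apply]

theorem map_autE_O (e : V ≃ₗ[F] V') (he : ∀ v, Q' (e v) = Q v) :
    (O Q).map (autE e).toMonoidHom = O Q' := by
  apply le_antisymm
  · rintro _ ⟨g, hg, rfl⟩
    exact conj_mem_O e he hg
  · intro g hg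
    refine ⟨(autE e).symm g, ?_, (autE e).apply_symm_apply g⟩
    intro v
    show Q (e.symm (g (e v))) = Q v
    rw [← he, LinearEquiv.apply_symm_apply, mem_O.1 hg, he]

theorem map_autE_Om (e : V ≃ₗ[F] V') (he : ∀ v, Q' (e v) = Q v) :
    (Om Q).map (autE e).toMonoidHom = Om Q' := by
  rw [Om, Subgroup.map_commutator, map_autE_O e he]

theorem autE_mem_Om {e : V ≃ₗ[F] V'} (he : ∀ v, Q' (e v) = Q v) {g : V ≃ₗ[F] V} :
    autE e g ∈ Om Q' ↔ g ∈ Om Q := by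
  rw [← map_autE_Om e he]
  constructor
  · rintro ⟨g', hg', h⟩
    rw [(autE e).injective h] at hg'
    exact hg'
  · intro h
    exact ⟨g, h, rfl⟩

theorem autE_mem_O {e : V ≃ₗ[F] V'} (he : ∀ v, Q' (e v) = Q v) {g : V ≃ₗ[F] V} :
    autE e g ∈ O Q' ↔ g ∈ O Q := by
  rw [← map_autE_O e he]
  constructor
  · rintro ⟨g', hg', h⟩
    rw [(autE e).injective h] at hg'
    exact hg'
  · intro h
    exact ⟨g, h, rfl⟩

theorem polar_iso {e : V ≃ₗ[F] V'} (he : ∀ v, Q' (e v) = Q v) (x y : V) :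
    polar Q' (e x) (e y) = polar Q x y := by
  simp only [polar, ← map_add, he]

theorem hyp_iso {e : V ≃ₗ[F] V'} (he : ∀ v, Q' (e v) = Q v) {x y : V} (h : Hyp Q x y) :
    Hyp Q' (e x) (e y) :=
  ⟨by rw [he]; exact h.left, by rw [he]; exact h.right, by rw [polar_iso he]; exact h.pair⟩

theorem autE_hsc {e : V ≃ₗ[F] V'} (he : ∀ v, Q' (e v) = Q v) {x y : V} (h : Hyp Q x y)
    (h' : Hyp Q' (e x) (e y)) (s : Fˣ) : autE e (hsc h s) = hsc h' s := by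
  apply LinearEquiv.ext
  intro v
  obtain ⟨v, rfl⟩ := e.surjective v
  rw [autE_apply', hsc_apply, hsc_apply, polar_iso he, polar_iso he, map_add, map_add, map_smul,
    map_smul]

/-- Classes are transported. -/
theorem Cl.of_autE {e : V ≃ₗ[F] V'} (he : ∀ v, Q' (e v) = Q v) {s : Fˣ} {y : V ≃ₗ[F] V}
    (h : Cl Q' s (autE e y)) : Cl Q s y := by
  refine ⟨(autE_mem_O he).1 h.1, fun x x' hx => ?_⟩
  rw [← autE_mem_Om he, map_mul, map_inv, autE_hsc he hx (hyp_iso he hx)]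
  exact h.2 _ _ _

theorem Un.of_autE {e : V ≃ₗ[F] V'} {y : V ≃ₗ[F] V} {c : F[X]}
    (h : Un ((autE e y : V' ≃ₗ[F] V') : Module.End F V') c) : Un (y : Module.End F V) c := by
  have e1 : ∀ v, aeval ((autE e y : V' ≃ₗ[F] V') : Module.End F V') c (e v) =
      e (aeval (y : Module.End F V) c v) := fun v =>
    (intertwine (e : V →ₗ[F] V') (y : Module.End F V)
      ((autE e y : V' ≃ₗ[F] V') : Module.End F V') (fun v => (autE_apply' e y v).symm) c v).symm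
  obtain ⟨u, hu⟩ := h
  refine ⟨⟨aeval (y : Module.End F V) c, (e.symm : V' →ₗ[F] V) ∘ₗ
    ((u⁻¹ : (Module.End F V')ˣ) : Module.End F V') ∘ₗ (e : V →ₗ[F] V'), ?_, ?_⟩, rfl⟩
  · apply LinearMap.ext
    intro v
    show aeval (y : Module.End F V) c (e.symm (((u⁻¹ : (Module.End F V')ˣ) : Module.End F V') (e v))) = v
    apply e.injective
    rw [← e1, LinearEquiv.apply_symm_apply, ← hu, ← Module.End.mul_apply, Units.mul_inv,
      Module.End.one_apply]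
  · apply LinearMap.ext
    intro v
    show e.symm (((u⁻¹ : (Module.End F V')ˣ) : Module.End F V') (e (aeval (y : Module.End F V) c v))) = v
    rw [← e1, ← hu, ← Module.End.mul_apply, Units.inv_mul, Module.End.one_apply,
      LinearEquiv.symm_apply_apply]

/-! ### Solutions -/

/-- `g = k y k⁻¹ y⁻¹` with `k ∈ Ω`, `y ∈ Ω h(s)` and `R y`. -/
def Sol (Q : QuadraticForm F V) (g : V ≃ₗ[F] V) (s : Fˣ) (R : (V ≃ₗ[F] V) → Prop) : Prop :=
  ∃ k ∈ Om Q, ∃ y, Cl Q s y ∧ g = k * y * k⁻¹ * y⁻¹ ∧ R y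

theorem Sol.of_autE {e : V ≃ₗ[F] V'} (he : ∀ v, Q' (e v) = Q v) {g : V ≃ₗ[F] V} {s : Fˣ}
    {R : (V ≃ₗ[F] V) → Prop} {R' : (V' ≃ₗ[F] V') → Prop} (h : Sol Q' (autE e g) s R')
    (hR : ∀ y, R' (autE e y) → R y) : Sol Q g s R := by
  obtain ⟨k', hk', y', hy', e', hr'⟩ := h
  obtain ⟨k, rfl⟩ := (autE e).surjective k'
  obtain ⟨y, rfl⟩ := (autE e).surjective y'
  refine ⟨k, (autE_mem_Om he).1 hk', y, hy'.of_autE he, ?_, hR y hr'⟩
  apply (autE e).injective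
  rw [e']
  simp only [map_mul, map_inv]

section Fin

variable [Finite F] [FiniteDimensional F V]

/-- **Corner `1` and a block `X`.** -/
theorem block (hG : Good (MQ n Q)) (hn : 0 < n) (hV : ∃ x x', Hyp Q x x')
    {g : M F V n ≃ₗ[F] M F V n} (hg : g ∈ Om (MQ n Q)) (hcorner : ∀ a, (g (a, 0, 0)).1 = a)
    (hOm : ∀ g₁ ∈ O Q, lev (1 : GL (Fin n) F) g₁ ∈ Om (MQ n Q) → g₁ ∈ Om Q)
    {s t : Fˣ} (R : (V ≃ₗ[F] V) → Prop) (ih : ∀ g₁ ∈ Om Q, Sol Q g₁ t R)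
    (P : GL (Fin n) F → (V ≃ₗ[F] V) → Prop)
    (hcop : ∀ y, R y → ∃ (X : GL (Fin n) F) (a : Fˣ), (X : Matrix (Fin n) (Fin n) F).det =
      ((s * (a * a) : Fˣ) : F) ∧ P X y ∧ ∀ k : V ≃ₗ[F] V, Cop X (k * y * k⁻¹)) :
    Sol (MQ n Q) g (s * t) (fun η => ∃ y v X, R y ∧ P X y ∧ η = v * lev X y * v⁻¹) := by
  obtain ⟨u₁, hu₁, g₁, hg₁, u₂, hu₂, e⟩ := decomp (Om_le hg) 1 (fun a => by
    rw [hcorner]; simp)
  -- `U⁻, U⁺ ≤ Ω`
  obtain ⟨k', hk', y', hy', -, hR'⟩ := ih 1 (one_mem _)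
  obtain ⟨X', a', -, -, hcX'⟩ := hcop y' hR'
  have hc' : Cop X' y' := by simpa using hcX' 1
  have key1 : ∀ u ∈ Um n Q, u ∈ Om (MQ n Q) := by
    intro u hu
    have := finite_subgroup (Um n Q)
    obtain ⟨v, hv, e2⟩ := exists_comm (Um n Q) (lev X' y')
      (fun u hu => lev_conj_Um hy'.1 hu) (fun u hu => hc'.um hu) hu
    rw [e2]
    exact comm_mem_Om hv.1 (lev_mem hy'.1)
  have key2 : ∀ u ∈ Up n Q, u ∈ Om (MQ n Q) := by
    intro u hu
    have := finite_subgroup (Up n Q)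
    obtain ⟨v, hv, e2⟩ := exists_comm (Up n Q) (lev X' y')
      (fun u hu => lev_conj_Up hy'.1 hu) (fun u hu => hc'.up hu) hu
    rw [e2]
    exact comm_mem_Om hv.1 (lev_mem hy'.1)
  have h1 : lev (1 : GL (Fin n) F) g₁ ∈ Om (MQ n Q) := by
    have e2 : lev (1 : GL (Fin n) F) g₁ = u₁⁻¹ * g * u₂⁻¹ := by rw [e]; group
    rw [e2]
    exact (Om _).mul_mem ((Om _).mul_mem ((Om _).inv_mem (key1 _ hu₁)) hg)
      ((Om _).inv_mem (key2 _ hu₂))
  obtain ⟨k, hk, y, hy, e3, hR⟩ := ih g₁ (hOm g₁ hg₁ h1)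
  obtain ⟨X, a, hX, hPX, hcX⟩ := hcop y hR
  obtain ⟨κ, hκ, v, hv, e4⟩ := step (A := 1) (X := X) (Y := X) (K := 1) (g₁ := g₁)
    (x := k * y * k⁻¹) (y := y) (k := k) hu₁ hu₂ (by rw [mul_inv_cancel]) (by group) e3 rfl hy.1
    (Om_le hk) (hcX k) (by simpa using hcX 1) (levV_mem hk)
  refine ⟨κ, hκ, v * lev X y * v⁻¹, ?_, by rw [e, e4], y, v, X, hR, hPX, rfl⟩
  have h2 := (lev_cl_mul hG hn hX hy hV).conj (Om_le hv)
  have h3 := h2.sq hG (t := a⁻¹)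
  have e5 : s * (a * a) * t * (a⁻¹ * a⁻¹) = s * t := by
    calc s * (a * a) * t * (a⁻¹ * a⁻¹) = s * t * ((a * a⁻¹) * (a * a⁻¹)) := by
          simp only [mul_assoc, mul_comm, mul_left_comm]
      _ = s * t := by rw [mul_inv_cancel, mul_one, mul_one]
  rwa [e5] at h3

/-- **Base corner.** -/
theorem base (hG : Good (MQ n Q)) (hn : 0 < n) {g : M F V n ≃ₗ[F] M F V n}
    (hg : g ∈ O (MQ n Q)) {A Y K : GL (Fin n) F}
    (hA : ∀ a, (g (a, 0, 0)).1 = (A : Matrix (Fin n) (Fin n) F) *ᵥ a)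
    (hS : ∀ v, ∃ c d, g (c, v, 0) = (0, v, d)) (hAY : A = (K * Y * K⁻¹) * Y⁻¹)
    (hK : (K : Matrix (Fin n) (Fin n) F).det = 1) {s : Fˣ}
    (hY : (Y : Matrix (Fin n) (Fin n) F).det = s)
    (hc1 : Cop (K * Y * K⁻¹) (1 : V ≃ₗ[F] V)) (hc2 : Cop Y (1 : V ≃ₗ[F] V)) :
    Sol (MQ n Q) g s (fun η => ∃ v, η = v * lev Y 1 * v⁻¹) := by
  obtain ⟨u₁, hu₁, g₁, hg₁, u₂, hu₂, e⟩ := decomp hg A hA
  have hg1 : g₁ = 1 := by
    apply LinearEquiv.ext
    intro v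
    obtain ⟨c, d, hcd⟩ := hS v
    have h1 : (u₂ (c, v, 0)).2.1 = v := hu₂.2.2.1 _ rfl
    have h2 : (u₂ (c, v, 0)).2.2 = 0 := hu₂.2.1 _
    have h3 : u₁ (lev A g₁ (u₂ (c, v, 0))) = (0, v, d) := by
      rw [← hcd, e]; rfl
    have h4 : (lev A g₁ (u₂ (c, v, 0))).1 = 0 := by
      rw [← hu₁.2.1, h3]
    have h5 := hu₁.2.2.1 _ h4
    rw [h3, lev_apply, h1] at h5
    exact h5.symm
  obtain ⟨κ, hκ, v, hv, e4⟩ := step (A := A) (X := K * Y * K⁻¹) (Y := Y) (K := K) (g₁ := g₁)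
    (x := 1) (y := 1) (k := 1) hu₁ hu₂ hAY rfl (by rw [hg1]; group) (by group) (O Q).one_mem
    (O Q).one_mem hc1 hc2 (lev_det_one_mem hG hK)
  refine ⟨κ, hκ, v * lev Y 1 * v⁻¹, ?_, by rw [e, e4], v, rfl⟩
  exact (lev_cl hG hn hY).conj (Om_le hv)

end Fin

end Cfsg.Agent.H140.OreO
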