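import Mathlib
import Cfsg.Agent.H140.OreO.Trans

/-!
# More on reciprocal polynomials
-/

set_option autoImplicit false
set_option linter.unusedSectionVars false
set_option linter.unusedSimpArgs false
set_option linter.unusedVariables false

namespace Cfsg.Agent.H140.OreO

open Polynomial Matrix

variable {F : Type*} [Field F]

theorem natDegree_rev {f : F[X]} (h : f.coeff 0 ≠ 0) : f.reverse.natDegree = f.natDegree := by
  rw [reverse_natDegree, natTrailingDegree_eq_zero.2 (Or.inr h), Nat.sub_zero]

theorem rev_rev {f : F[X]} (h : f.coeff 0 ≠ 0) : f.reverse.reverse = f := by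
  ext n
  rw [coeff_reverse, coeff_reverse, natDegree_rev h, revAt_invol]

theorem rev_coeff_zero {f : F[X]} (h : f ≠ 0) : f.reverse.coeff 0 ≠ 0 := by
  rw [coeff_zero_reverse]
  exact leadingCoeff_ne_zero.2 h

theorem irreducible_rev {f : F[X]} (hf : Irreducible f) (h : f.coeff 0 ≠ 0) :
    Irreducible f.reverse := by
  refine ⟨fun hu => ?_, fun {g k} hgk => ?_⟩
  · have h1 := natDegree_eq_zero_of_isUnit hu
    rw [natDegree_rev h] at h1
    exact absurd h1 hf.natDegree_pos.ne'
  · have h0 : f.reverse.coeff 0 ≠ 0 := rev_coeff_zero hf.ne_zero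
    have hg : g.coeff 0 ≠ 0 := by
      intro hg
      apply h0
      rw [hgk, mul_coeff_zero, hg, zero_mul]
    have hk : k.coeff 0 ≠ 0 := by
      intro hg
      apply h0
      rw [hgk, mul_coeff_zero, hg, mul_zero]
    have e : f = g.reverse * k.reverse := by
      rw [← reverse_mul_of_domain, ← hgk, rev_rev h]
    have key : ∀ {p : F[X]}, p.coeff 0 ≠ 0 → IsUnit p.reverse → IsUnit p := by
      intro p hp hu
      have h1 := natDegree_eq_zero_of_isUnit hu
      rw [natDegree_rev hp] at h1
      rw [eq_C_of_natDegree_eq_zero h1, isUnit_C]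
      exact hp.isUnit
    rcases hf.isUnit_or_isUnit e with h1 | h1
    · exact Or.inl (key hg h1)
    · exact Or.inr (key hk h1)

theorem coprime_of_deg {c P : F[X]} (hc : Irreducible c) (hP : P ≠ 0)
    (h : P.natDegree < c.natDegree) : IsCoprime c P := by
  rw [hc.coprime_iff_not_dvd]
  intro hd
  exact absurd (natDegree_le_of_dvd hd hP) (by omega)

theorem coprime_of_deg_ne {c P : F[X]} (hc : Irreducible c) (hP : Irreducible P)
    (h : P.natDegree ≠ c.natDegree) : IsCoprime c P := by
  rcases lt_or_gt_of_ne h with h | h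
  · exact coprime_of_deg hc hP.ne_zero h
  · exact (coprime_of_deg hP hc.ne_zero h).symm

/-- An irreducible cubic is prime to its reciprocal. -/
theorem cubic_coprime_rev {P : F[X]} (hP : Irreducible P) (hm : P.Monic) (hd : P.natDegree = 3) :
    IsCoprime P P.reverse := by
  have h0 : P.coeff 0 ≠ 0 := coeff_zero_ne hP (by omega)
  rw [hP.coprime_iff_not_dvd]
  rintro ⟨q, hq⟩
  have hq0 : q ≠ 0 := by
    rintro rfl
    rw [mul_zero, reverse_eq_zero] at hq
    exact hP.ne_zero hq
  have hdeg : q.natDegree = 0 := by
    have h1 := natDegree_rev h0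
    rw [hq, natDegree_mul hP.ne_zero hq0] at h1
    omega
  obtain ⟨d, rfl⟩ : ∃ d, q = C d := ⟨_, eq_C_of_natDegree_eq_zero hdeg⟩
  have hc : ∀ n, P.coeff (revAt 3 n) = P.coeff n * d := by
    intro n
    have := congrArg (fun p => p.coeff n) hq
    simpa [coeff_reverse, hd, coeff_mul_C] using this
  have c0 := hc 0
  have c1 := hc 1
  have c2 := hc 2
  have c3 := hc 3
  have r0 : revAt 3 0 = 3 := by decide
  have r1 : revAt 3 1 = 2 := by decide
  have r2 : revAt 3 2 = 1 := by decide
  have r3 : revAt 3 3 = 0 := by decide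
  rw [r0] at c0
  rw [r1] at c1
  rw [r2] at c2
  rw [r3] at c3
  have hl : P.coeff 3 = 1 := by rw [← hd]; exact hm
  rw [hl] at c0 c3
  have hd2 : (d - 1) * (d + 1) = 0 := by
    rw [c3] at c0
    linear_combination -c0
  have heval : ∀ x : F, P.eval x = P.coeff 0 + P.coeff 1 * x + P.coeff 2 * x ^ 2 + x ^ 3 := by
    intro x
    rw [eval_eq_sum_range, hd]
    simp [Finset.sum_range_succ, hl]
  have hroot : ∀ x : F, P.eval x ≠ 0 := by
    intro x hx
    have h1 : X - C x ∣ P := dvd_iff_isRoot.2 hx
    obtain ⟨k, hk⟩ := h1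
    rcases hP.isUnit_or_isUnit hk with h2 | h2
    · have := natDegree_eq_zero_of_isUnit h2
      rw [natDegree_X_sub_C] at this
      omega
    · have h3 := natDegree_eq_zero_of_isUnit h2
      have h4 : P.natDegree ≤ 1 := by
        rw [hk]
        refine le_trans natDegree_mul_le ?_
        rw [natDegree_X_sub_C, h3]
      omega
  rcases mul_eq_zero.1 hd2 with h | h
  · have hd1 : d = 1 := by linear_combination h
    apply hroot (-1)
    rw [heval, c1, c3, hd1]
    ring
  · have hd1 : d = -1 := by linear_combination h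
    apply hroot 1
    rw [heval, c1, c3, hd1]
    ring

/-- A good cubic with square determinant avoiding a given cubic. -/
theorem exists_good_cubic_sq (F : Type*) [Field F] [Finite F] (hF : 3 ≤ Nat.card F) (p : F[X])
    (hp : Irreducible p) (hd : p.natDegree = 3) :
    ∃ c : F[X], GoodPoly 3 c ∧ IsSquare (- c.coeff 0) ∧ IsCoprime c p ∧ IsCoprime c p.reverse ∧
      IsCoprime c.reverse p ∧ IsCoprime c.reverse p.reverse := by
  obtain ⟨K, _, _, _, _, hK, hcard⟩ := exists_gen F 3 (by omega)
  classical
  have : Fintype K := Fintype.ofFinite K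
  have : Fintype F := Fintype.ofFinite F
  have hp0 : p ≠ 0 := hp.ne_zero
  have hr0 : p.reverse ≠ 0 := by rwa [Ne, reverse_eq_zero]
  let bad : Finset K := Finset.univ.image (algebraMap F K) ∪ ((p.map (algebraMap F K)).roots.toFinset ∪
    (p.reverse.map (algebraMap F K)).roots.toFinset)
  -- at least half of the elements are squares
  have hsq : Fintype.card K ≤ 2 * (Finset.univ.image (fun x : K => x ^ 2)).card := by
    rw [← Finset.card_univ]
    refine Finset.card_le_mul_card_image _ 2 fun b _ => ?_
    have hne : (X ^ 2 - C b : K[X]) ≠ 0 := X_pow_sub_C_ne_zero (by norm_num) b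
    have h1 : (Finset.univ.filter fun x : K => x ^ 2 = b) ⊆ (X ^ 2 - C b : K[X]).roots.toFinset := by
      intro x hx
      simp only [Finset.mem_filter, Finset.mem_univ, true_and] at hx
      rw [Multiset.mem_toFinset, mem_roots', IsRoot.def]
      exact ⟨hne, by simp [hx]⟩
    refine le_trans (Finset.card_le_card h1) (le_trans (Multiset.toFinset_card_le _)
      (le_trans (card_roots' _) ?_))
    rw [natDegree_X_pow_sub_C]
  have hbad : bad.card < (Finset.univ.image (fun x : K => x ^ 2)).card := by
    have h1 : (Finset.univ.image (algebraMap F K)).card ≤ Fintype.card F := by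
      refine le_trans Finset.card_image_le ?_
      rw [Finset.card_univ]
    have h2 : (p.map (algebraMap F K)).roots.toFinset.card ≤ 3 := by
      refine le_trans (Multiset.toFinset_card_le _) (le_trans (card_roots' _) ?_)
      rw [natDegree_map, hd]
    have h3 : (p.reverse.map (algebraMap F K)).roots.toFinset.card ≤ 3 := by
      refine le_trans (Multiset.toFinset_card_le _) (le_trans (card_roots' _) ?_)
      rw [natDegree_map]
      exact le_trans (reverse_natDegree_le p) hd.le
    have h4 := Finset.card_union_le (Finset.univ.image (algebraMap F K))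
      ((p.map (algebraMap F K)).roots.toFinset ∪ (p.reverse.map (algebraMap F K)).roots.toFinset)
    have h5 := Finset.card_union_le (p.map (algebraMap F K)).roots.toFinset
      (p.reverse.map (algebraMap F K)).roots.toFinset
    rw [Nat.card_eq_fintype_card, Nat.card_eq_fintype_card] at hcard
    rw [Nat.card_eq_fintype_card] at hF
    have h6 : Fintype.card F ^ 3 ≥ 9 * Fintype.card F := by
      have : Fintype.card F ^ 3 = Fintype.card F * Fintype.card F * Fintype.card F := by ring
      rw [this]
      exact Nat.mul_le_mul_right _ (Nat.mul_le_mul hF hF)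
    show (Finset.univ.image (algebraMap F K) ∪ _).card < _
    omega
  obtain ⟨a, hasq, ha⟩ : ∃ a ∈ (Finset.univ.image (fun x : K => x ^ 2)), a ∉ bad :=
    Finset.exists_mem_notMem_of_card_lt_card hbad
  obtain ⟨b, -, hba⟩ := Finset.mem_image.1 hasq
  simp only [bad, Finset.mem_union, not_or, Finset.mem_image, Finset.mem_univ, true_and,
    Multiset.mem_toFinset, not_exists] at ha
  obtain ⟨ha1, ha2, ha3⟩ := ha
  have ha0 : a ≠ 0 := fun h => ha1 0 (by rw [map_zero, h])
  have hpa : aeval a p ≠ 0 := by
    intro h
    apply ha2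
    rw [mem_roots', IsRoot.def, eval_map_algebraMap]
    exact ⟨by rwa [Ne, Polynomial.map_eq_zero], h⟩
  have hpr : aeval a p.reverse ≠ 0 := by
    intro h
    apply ha3
    rw [mem_roots', IsRoot.def, eval_map_algebraMap]
    exact ⟨by rwa [Ne, Polynomial.map_eq_zero], h⟩
  have hint : IsIntegral F a := Algebra.IsIntegral.isIntegral _
  have hroot : aeval a (minpoly F a) = 0 := minpoly.aeval _ _
  have hirr := minpoly.irreducible hint
  have hmon := minpoly.monic hint
  have hdeg : (minpoly F a).natDegree = 3 := by
    have h1 : (minpoly F a).natDegree ∣ 3 := by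
      rw [← hK]
      exact minpoly.degree_dvd hint
    have h2 : (minpoly F a).natDegree ≠ 1 := by
      intro h
      rw [minpoly.natDegree_eq_one_iff] at h
      obtain ⟨b, hb⟩ := h
      exact ha1 b hb
    exact ((Nat.dvd_prime Nat.prime_three).1 h1).resolve_left h2
  have h00 : (minpoly F a).coeff 0 ≠ 0 := coeff_zero_ne hirr (by omega)
  -- the root `a⁻¹` of the reciprocal
  have inv1 : Invertible a⁻¹ := invertibleOfNonzero (inv_ne_zero ha0)
  have inv2 : Invertible a := invertibleOfNonzero ha0
  have hroot' : aeval a⁻¹ (minpoly F a).reverse = 0 := by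
    have h2 := (eval₂_reverse_eq_zero_iff (algebraMap F K) a (minpoly F a)).2
    rw [invOf_eq_inv] at h2
    exact h2 hroot
  have hpa' : aeval a⁻¹ p.reverse ≠ 0 := by
    intro h
    apply hpa
    have h2 := (eval₂_reverse_eq_zero_iff (algebraMap F K) a p).1
    rw [invOf_eq_inv] at h2
    exact h2 h
  have hpr' : aeval a⁻¹ p ≠ 0 := by
    intro h
    apply hpr
    have h2 := (eval₂_reverse_eq_zero_iff (algebraMap F K) a⁻¹ p).2
    rw [invOf_eq_inv, inv_inv] at h2
    exact h2 h
  have hsquare : IsSquare (-(minpoly F a).coeff 0) := by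
    let bs := Module.finBasisOfFinrankEq F K hK
    let L := Algebra.leftMulMatrix bs
    have h1 : aeval a (L a).charpoly = 0 := by
      have h2 := aeval_self_charpoly (L a)
      have h3 : aeval (L a) (L a).charpoly = L (aeval a (L a).charpoly) :=
        Polynomial.aeval_algHom_apply L a _
      rw [h3] at h2
      exact (map_eq_zero_iff L (Algebra.leftMulMatrix_injective bs)).1 h2
    have h2 : minpoly F a ∣ (L a).charpoly := minpoly.dvd F a h1
    have h3 : (L a).charpoly = minpoly F a := by
      refine (Polynomial.eq_of_monic_of_dvd_of_natDegree_le hmon (charpoly_monic _) h2 ?_)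
      rw [charpoly_natDegree_eq_dim, Fintype.card_fin, hdeg]
    have h4 := det_eq_sign_charpoly_coeff (L a)
    rw [h3, Fintype.card_fin] at h4
    have h5 : -(minpoly F a).coeff 0 = (L a).det := by rw [h4]; ring
    rw [h5, ← hba, map_pow, det_pow]
    exact ⟨(L b).det, by ring⟩
  exact ⟨minpoly F a, ⟨hmon, hirr, hdeg, cubic_coprime_rev hirr hmon hdeg⟩, hsquare,
    isCoprime_of_root hirr hroot hpa, isCoprime_of_root hirr hroot hpr,
    isCoprime_of_root (irreducible_rev hirr h00) hroot' hpr',
    isCoprime_of_root (irreducible_rev hirr h00) hroot' hpa'⟩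

end Cfsg.Agent.H140.OreO
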