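import Mathlib
import Cfsg.Agent.H140.OreO.PolyB

/-!
# Good quartics that are not biquadratic
-/

set_option autoImplicit false
set_option linter.unusedSectionVars false
set_option linter.unusedSimpArgs false
set_option linter.unusedVariables false

namespace Cfsg.Agent.H140.OreO

open Polynomial

universe u

variable {F : Type u} [Field F]

/-- Polynomials of degree four must not be biquadratic (odd characteristic). -/
def NB (c : F[X]) : Prop := (2 : F) ≠ 0 → c.natDegree = 4 → c.coeff 1 ≠ 0 ∨ c.coeff 3 ≠ 0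

theorem nb_of_deg {c : F[X]} (h : c.natDegree ≠ 4) : NB c := fun _ h4 => absurd h4 h

theorem NB.rev {c : F[X]} (h0 : c.coeff 0 ≠ 0) (h : NB c) : NB c.reverse := by
  intro h2 h4
  rw [natDegree_rev h0] at h4
  rw [coeff_reverse, coeff_reverse, h4, revAt_le (by norm_num), revAt_le (by norm_num)]
  exact (h h2 h4).symm

theorem exists_good_quartic (F : Type*) [Field F] [Finite F] (hF : 3 ≤ Nat.card F) :
    ∃ c : F[X], GoodPoly 4 c ∧ (c.coeff 1 ≠ 0 ∨ c.coeff 3 ≠ 0) := by
  have hq2 : 9 ≤ Nat.card F ^ 2 := by nlinarith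
  have e4 : Nat.card F ^ 4 = Nat.card F ^ 2 * Nat.card F ^ 2 := by ring
  obtain ⟨K, _, _, _, u, hcard, hu, h⟩ := exists_good_gen F 4 (by norm_num) (by nlinarith)
  refine ⟨_, h, ?_⟩
  by_contra hcon
  push Not at hcon
  obtain ⟨h1, h3⟩ := hcon
  have h2 : aeval ((u : K) ^ 2) (X ^ 2 + C ((minpoly F (u : K)).coeff 2) * X +
      C ((minpoly F (u : K)).coeff 0) : F[X]) = 0 := by
    have h3' := minpoly.aeval F (u : K)
    rw [aeval_eq_sum_range, h.deg] at h3'
    have h4 : (minpoly F (u : K)).coeff 4 = 1 := by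
      have := h.monic
      rw [Monic, leadingCoeff, h.deg] at this
      exact this
    simp only [Finset.sum_range_succ, Finset.sum_range_zero, h1, h3, h4, zero_smul, one_smul,
      Algebra.smul_def, pow_zero, mul_one, zero_add, add_zero, map_zero, map_one, zero_mul,
      one_mul] at h3'
    simp only [map_add, map_mul, map_pow, aeval_X, aeval_C]
    linear_combination h3'
  set a : K := (u : K) ^ 2 with ha
  have ha0 : a ≠ 0 := pow_ne_zero 2 u.ne_zero
  have hint : IsIntegral F a := Algebra.IsIntegral.isIntegral _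
  have hdeg : (minpoly F a).natDegree ≤ 2 := by
    have hne : (X ^ 2 + C ((minpoly F (u : K)).coeff 2) * X +
      C ((minpoly F (u : K)).coeff 0) : F[X]) ≠ 0 := by
      intro h0
      have := congrArg (fun p => p.coeff 2) h0
      simp [coeff_X, coeff_C] at this
    refine le_trans (natDegree_le_of_dvd (minpoly.dvd F a h2) hne) ?_
    compute_degree
  let L := IntermediateField.adjoin F {a}
  have hL : Module.finrank F L ≤ 2 := by
    rw [IntermediateField.adjoin.finrank hint]; exact hdeg
  have : Finite L := inferInstance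
  have : Fintype L := Fintype.ofFinite L
  have hLc : Nat.card L ≤ Nat.card F ^ 2 := by
    rw [Module.natCard_eq_pow_finrank (K := F)]
    exact Nat.pow_le_pow_right (by omega) hL
  let a' : L := ⟨a, IntermediateField.mem_adjoin_simple_self F a⟩
  have ha' : a' ≠ 0 := fun h0 => ha0 (congrArg Subtype.val h0)
  have h5 : a' ^ (Nat.card L - 1) = 1 := by
    rw [Nat.card_eq_fintype_card]
    exact FiniteField.pow_card_sub_one_eq_one a' ha'
  have h6 : u ^ (2 * (Nat.card L - 1)) = 1 := by
    apply Units.ext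
    rw [Units.val_pow_eq_pow_val, pow_mul]
    exact congrArg Subtype.val h5
  have h7 : orderOf u = Nat.card Kˣ := orderOf_eq_card_of_forall_mem_zpowers hu
  have h8 : Nat.card Kˣ = Nat.card F ^ 4 - 1 := by rw [Nat.card_units, hcard]
  have hL2 : 2 ≤ Nat.card L := by
    rw [Nat.card_eq_fintype_card]
    exact Fintype.one_lt_card
  have h9 := Nat.le_of_dvd (by omega) (orderOf_dvd_of_pow_eq_one h6)
  rw [h7, h8, e4] at h9
  have h11 : 9 * Nat.card F ^ 2 ≤ Nat.card F ^ 2 * Nat.card F ^ 2 := Nat.mul_le_mul_right _ hq2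
  omega

/-- Good polynomials of degree `m ≥ 4`. -/
theorem exists_good_nb (F : Type*) [Field F] [Finite F] (hF : 3 ≤ Nat.card F) (m : ℕ)
    (hm : 4 ≤ m) : ∃ c : F[X], GoodPoly m c ∧ NB c := by
  obtain rfl | hm4 := eq_or_ne m 4
  · obtain ⟨c, h1, h2⟩ := exists_good_quartic F hF
    exact ⟨c, h1, fun _ _ => h2⟩
  · obtain ⟨c, hc⟩ := exists_good F m (by omega) (by
      calc 5 ≤ 3 ^ 2 := by norm_num
        _ ≤ Nat.card F ^ 2 := Nat.pow_le_pow_left hF 2
        _ ≤ Nat.card F ^ m := Nat.pow_le_pow_right (by omega) (by omega))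
    exact ⟨c, hc, nb_of_deg (by rw [hc.deg]; exact hm4)⟩

end Cfsg.Agent.H140.OreO
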