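import Mathlib
import Cfsg.Agent.H140.OreO.PolyNB
import Cfsg.Agent.H958.Ore.IB
import Cfsg.Agent.H141.SpinLev

/-!
# The recursion `T(N)`
-/

set_option autoImplicit false
set_option linter.unusedSectionVars false
set_option linter.unusedSimpArgs false
set_option linter.unusedVariables false

namespace Cfsg.Agent.H140.OreO

open Polynomial Matrix QuadraticMap Cfsg.Agent.LieClassical.OrthCore
  Cfsg.Agent.LieClassical.OrthTrans Cfsg.Agent.LieClassical.OrthFinite
open scoped commutatorElement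

universe u v

variable {F : Type u} [Field F]

/-- Admissible one-dimensional blocks. -/
def LinOK (β : F) : Prop := β ≠ 0 ∧ β ≠ 1 ∧ ((2 : F) ≠ 0 → β = -1)

/-- Spectral control on `y` in dimension `N`. -/
structure Out (N : ℕ) {V : Type*} [AddCommGroup V] [Module F V] (y : V ≃ₗ[F] V) : Prop where
  low : ∀ c : F[X], Irreducible c → 3 < c.natDegree → (N - 2) / 4 < c.natDegree → NB c →
    Un (y : Module.End F V) c
  cub : N ≤ 14 → ∃ c : F[X], GoodPoly 3 c ∧ IsSquare (- c.coeff 0) ∧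
    Un (y : Module.End F V) c ∧ Un (y : Module.End F V) c.reverse
  quad : N ≤ 10 → ∀ c : F[X], Irreducible c → c.natDegree = 2 → c.coeff 1 ≠ 0 →
    Un (y : Module.End F V) c
  lin : N ≤ 8 → ∀ β : F, LinOK β → Un (y : Module.End F V) (X - C β)

section

variable {V V' : Type*} [AddCommGroup V] [Module F V] [AddCommGroup V'] [Module F V']

theorem Out.conj {N : ℕ} {y : V ≃ₗ[F] V} (h : Out N y) (g : V ≃ₗ[F] V) : Out N (g * y * g⁻¹) where
  low := fun c h1 h2 h3 h4 => (h.low c h1 h2 h3 h4).conj' g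
  cub := fun hN => by
    obtain ⟨c, h1, h2, h3, h4⟩ := h.cub hN
    exact ⟨c, h1, h2, h3.conj' g, h4.conj' g⟩
  quad := fun hN c h1 h2 h3 => (h.quad hN c h1 h2 h3).conj' g
  lin := fun hN β h1 => (h.lin hN β h1).conj' g

theorem Out.of_autE {N : ℕ} {e : V ≃ₗ[F] V'} {y : V ≃ₗ[F] V} (h : Out N (autE e y)) : Out N y where
  low := fun c h1 h2 h3 h4 => (h.low c h1 h2 h3 h4).of_autE
  cub := fun hN => by
    obtain ⟨c, h1, h2, h3, h4⟩ := h.cub hN
    exact ⟨c, h1, h2, h3.of_autE, h4.of_autE⟩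
  quad := fun hN c h1 h2 h3 => (h.quad hN c h1 h2 h3).of_autE
  lin := fun hN β h1 => (h.lin hN β h1).of_autE

/-- The corner in the model. -/
theorem corner_model {n : ℕ} {Q : QuadraticForm F V} {w w' : Fin n → V} (hf : Frame Q w w')
    (g : V ≃ₗ[F] V) (a : Fin n → F) :
    (autE hf.toModel g (a, 0, 0)).1 = corner Q g w w' *ᵥ a := by
  ext i
  rw [autE_apply, hf.toModel_fst, hf.toModel_symm_apply]
  simp only [ZeroMemClass.coe_zero, Pi.zero_apply, zero_smul, Finset.sum_const_zero, add_zero,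
    map_sum, map_smul]
  rw [← polarBilin_apply_apply, map_sum, LinearMap.sum_apply]
  simp only [map_smul, LinearMap.smul_apply, polarBilin_apply_apply, smul_eq_mul, mulVec,
    dotProduct, corner_apply]
  exact Finset.sum_congr rfl fun j _ => mul_comm _ _

theorem schur_model {n : ℕ} {Q : QuadraticForm F V} {w w' : Fin n → V} (hf : Frame Q w w')
    {g : V ≃ₗ[F] V} (hS : SchurOne Q g w w') (v : perp Q w w') :
    ∃ c d, autE hf.toModel g (c, v, 0) = (0, v, d) := by
  obtain ⟨c, d, h⟩ := hS v v.2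
  refine ⟨c, d, ?_⟩
  have h1 : hf.toModel.symm (c, v, 0) = (v : V) + ∑ i, c i • w i := by
    rw [hf.toModel_symm_apply]
    simp [add_comm]
  have h2 : hf.toModel.symm (0, v, d) = (v : V) + ∑ i, d i • w' i := by
    rw [hf.toModel_symm_apply]
    simp
  rw [autE_apply, h1, h, ← h2, LinearEquiv.apply_symm_apply]

end

/-- The statement `T(N)`. -/
def TT (F : Type u) [Field F] (N : ℕ) : Prop :=
  ∀ (V : Type v) [AddCommGroup V] [Module F V] [FiniteDimensional F V] (Q : QuadraticForm F V),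
    Nondeg Q → Module.finrank F V = N → ∀ g ∈ Om Q, ∀ s : Fˣ, Sol Q g s (Out N)

/-- Identity block. -/
theorem idblock [Finite F] {N N₁ m : ℕ} (hN : N = N₁ + 2 * m) (hm : 0 < m) (hN₁ : 7 ≤ N₁)
    (hT : TT.{u, v} F N₁) {V : Type v} [AddCommGroup V] [Module F V] [FiniteDimensional F V]
    {Q : QuadraticForm F V} (hQ : Nondeg Q) (hd : Module.finrank F V = N) {g : V ≃ₗ[F] V}
    (hg : g ∈ Om Q) (hI : IdFrame m Q g) (s s₀ : Fˣ) (P : GL (Fin m) F → Prop)
    (h1 : ∀ {V₁ : Type v} [AddCommGroup V₁] [Module F V₁] [FiniteDimensional F V₁]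
      (y : V₁ ≃ₗ[F] V₁), Out N₁ y → ∃ (X : GL (Fin m) F) (a : Fˣ),
        (X : Matrix (Fin m) (Fin m) F).det = ((s₀ * (a * a) : Fˣ) : F) ∧ P X ∧
        ∀ k : V₁ ≃ₗ[F] V₁, Cop X (k * y * k⁻¹))
    (h2 : ∀ {V₁ : Type v} [AddCommGroup V₁] [Module F V₁] [FiniteDimensional F V₁]
      (y : V₁ ≃ₗ[F] V₁) (X : GL (Fin m) F), Out N₁ y → P X → Out N (lev X y)) :
    Sol Q g s (Out N) := by
  obtain ⟨w, w', hf, hc⟩ := hI
  have he : ∀ v, MQ m (res Q w w') (hf.toModel v) = Q v := hf.MQ_toModel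
  have hV1 : Module.finrank F (perp Q w w') = N₁ := by
    have := hf.finrank_perp; omega
  have hQ1 := hf.nondeg_res hQ
  have hG : Good (MQ m (res Q w w')) := by
    apply good_of_finite (nondeg_MQ hQ1)
    rw [← hf.toModel.finrank_eq, hd]; omega
  have hG1 : Good (res Q w w') := good_of_finite hQ1 (by omega)
  refine Sol.of_autE he (R' := Out N) ?_ (fun y h => h.of_autE)
  have key := block hG hm hG1.exists_hyp ((autE_mem_Om he).2 hg)
    (fun a => by rw [corner_model, hc, one_mulVec])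
    (fun g₁ h h' => H141.SpinFacts.Om_of_lev hQ1 (by omega) h h') (s := s₀) (t := s₀⁻¹ * s)
    (Out N₁) (fun g₁ hg₁ => hT _ _ hQ1 hV1 g₁ hg₁ _) (fun X _ => P X) (fun y hy => h1 y hy)
  rw [mul_inv_cancel_left] at key
  obtain ⟨k, hk, y, hy, e, y₁, v, X, hR, hP, rfl⟩ := key
  exact ⟨k, hk, _, hy, e, (h2 y₁ X hR hP).conj v⟩

/-! ### Tools for the blocks -/

section

variable {V : Type*} [AddCommGroup V] [Module F V] {m : ℕ}

theorem un_X {X : GL (Fin m) F} {c : F[X]}
    (h : IsCoprime c (X : Matrix (Fin m) (Fin m) F).charpoly) :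
    Un (Matrix.toLin' (X : Matrix (Fin m) (Fin m) F)) c :=
  Un.of_coprime_mat (aeval_self_charpoly _) h

theorem un_tiX {X : GL (Fin m) F} {c : F[X]}
    (h : IsCoprime c (X : Matrix (Fin m) (Fin m) F).charpoly.reverse) :
    Un (Matrix.toLin' (ti X : Matrix (Fin m) (Fin m) F)) c :=
  Un.of_coprime_mat (aeval_ti_reverse X) h

/-- `c` prime to the block by degree. -/
theorem un_lev_of_deg [FiniteDimensional F V] {X : GL (Fin m) F} {y : V ≃ₗ[F] V} {c : F[X]}
    (hc : Irreducible c) (hX : Irreducible (X : Matrix (Fin m) (Fin m) F).charpoly)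
    (hX0 : (X : Matrix (Fin m) (Fin m) F).charpoly.coeff 0 ≠ 0) (hcm : c.natDegree ≠ m)
    (hy : Un (y : Module.End F V) c) :
    Un ((lev X y : M F V m ≃ₗ[F] M F V m) : Module.End F (M F V m)) c := by
  have hdeg : (X : Matrix (Fin m) (Fin m) F).charpoly.natDegree = m := by
    rw [charpoly_natDegree_eq_dim, Fintype.card_fin]
  refine un_lev (un_X (coprime_of_deg_ne hc hX (by rw [hdeg]; exact hcm.symm))) hy
    (un_tiX (coprime_of_deg_ne hc (irreducible_rev hX hX0) ?_))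
  rw [natDegree_rev hX0, hdeg]
  exact hcm.symm

theorem charpoly_coeff_zero_ne (X : GL (Fin m) F) :
    (X : Matrix (Fin m) (Fin m) F).charpoly.coeff 0 ≠ 0 := by
  intro h
  have h1 := det_eq_sign_charpoly_coeff (X : Matrix (Fin m) (Fin m) F)
  rw [h, mul_zero] at h1
  exact ((Matrix.isUnit_iff_isUnit_det _).1 X.isUnit).ne_zero h1

end

/-- The step with a good polynomial of degree `m ≥ 2` fixed in advance. -/
theorem good_step [Finite F] {N N₁ m : ℕ} (hN : N = N₁ + 2 * m) (hm : 2 ≤ m) (hN₁ : 7 ≤ N₁)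
    (hN9 : 11 ≤ N)
    (hmN : m ≤ 3 ∨ m ≤ (N - 2) / 4) (hT : TT.{u, v} F N₁) {V : Type v} [AddCommGroup V]
    [Module F V] [FiniteDimensional F V] {Q : QuadraticForm F V} (hQ : Nondeg Q)
    (hd : Module.finrank F V = N) {g : V ≃ₗ[F] V} (hg : g ∈ Om Q) (hI : IdFrame m Q g) (s : Fˣ)
    (c : F[X]) (hc : GoodPoly m c) (hm3 : N ≤ 14 → m ≠ 3)
    (h1 : ∀ {V₁ : Type v} [AddCommGroup V₁] [Module F V₁] [FiniteDimensional F V₁]
      (y : V₁ ≃ₗ[F] V₁), Out N₁ y → Un (y : Module.End F V₁) c ∧ Un (y : Module.End F V₁) c.reverse) :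
    Sol Q g s (Out N) := by
  have h0 : c.coeff 0 ≠ 0 := coeff_zero_ne hc.irr (by rw [hc.deg]; exact hm)
  obtain ⟨X, hX⟩ := exists_matrix c hc.monic h0 hc.deg
  have hdet : (X : Matrix (Fin m) (Fin m) F).det ≠ 0 :=
    ((Matrix.isUnit_iff_isUnit_det _).1 X.isUnit).ne_zero
  refine idblock hN (by omega) hN₁ hT hQ hd hg hI s (Units.mk0 _ hdet)
    (fun X => (X : Matrix (Fin m) (Fin m) F).charpoly = c) ?_ ?_
  · intro V₁ _ _ _ y hy
    refine ⟨X, 1, by simp, hX, fun k => ?_⟩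
    obtain ⟨h2, h3⟩ := h1 y hy
    apply cop_of_charpoly
    · rw [hX]; exact h2.conj' k
    · rw [hX]; exact h3.conj' k
    · rw [hX]; exact hc.cop
  · intro V₁ _ _ _ y X hy hX
    have hirr : Irreducible (X : Matrix (Fin m) (Fin m) F).charpoly := by rw [hX]; exact hc.irr
    refine ⟨fun c' h1 h2 h3 h4 => ?_, fun hN' => ?_, fun h => by omega, fun h => by omega⟩
    · refine un_lev_of_deg h1 hirr (charpoly_coeff_zero_ne X) (by omega) (hy.low c' h1 h2 ?_ h4)
      omega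
    · obtain ⟨c₃, h3, h4, h5, h6⟩ := hy.cub (by omega)
      have h7 : c₃.coeff 0 ≠ 0 := coeff_zero_ne h3.irr (by rw [h3.deg]; norm_num)
      refine ⟨c₃, h3, h4, un_lev_of_deg h3.irr hirr (charpoly_coeff_zero_ne X) ?_ h5,
        un_lev_of_deg (irreducible_rev h3.irr h7) hirr (charpoly_coeff_zero_ne X) ?_ h6⟩
      · rw [h3.deg]; exact (hm3 hN').symm
      · rw [natDegree_rev h7, h3.deg]; exact (hm3 hN').symm

end Cfsg.Agent.H140.OreO
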