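import Mathlib
import Cfsg.Agent.H140.OreO.Rec

/-!
# The steps of the recursion
-/

set_option autoImplicit false
set_option linter.unusedSectionVars false
set_option linter.unusedSimpArgs false
set_option linter.unusedVariables false

namespace Cfsg.Agent.H140.OreO

open Polynomial Matrix QuadraticMap Cfsg.Agent.LieClassical.OrthCore
  Cfsg.Agent.LieClassical.OrthTrans Cfsg.Agent.LieClassical.OrthFinite
open scoped commutatorElement

universe u v

variable {F : Type u} [Field F]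

theorem irr_rev_quad {c : F[X]} (hc : Irreducible c) (hd : c.natDegree = 2) (h1 : c.coeff 1 ≠ 0) :
    Irreducible c.reverse ∧ c.reverse.natDegree = 2 ∧ c.reverse.coeff 1 ≠ 0 := by
  have h0 : c.coeff 0 ≠ 0 := coeff_zero_ne hc (by omega)
  refine ⟨irreducible_rev hc h0, by rw [natDegree_rev h0, hd], ?_⟩
  rw [coeff_one_reverse, nextCoeff_of_natDegree_pos (by omega), hd]
  exact h1

/-- `11 ≤ N ≤ 14`. -/
theorem step_two [Finite F] (hF : 3 ≤ Nat.card F) {N : ℕ} (h1 : 11 ≤ N) (h2 : N ≤ 14)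
    (hT : TT.{u, v} F (N - 4)) {V : Type v} [AddCommGroup V]
    [Module F V] [FiniteDimensional F V] {Q : QuadraticForm F V} (hQ : Nondeg Q)
    (hd : Module.finrank F V = N) {g : V ≃ₗ[F] V} (hg : g ∈ Om Q) (hI : IdFrame 2 Q g) (s : Fˣ) :
    Sol Q g s (Out N) := by
  obtain ⟨c, hc, hc1⟩ := exists_good_quad F hF
  refine good_step (N₁ := N - 4) (m := 2) (by omega) le_rfl (by omega) h1 (Or.inl (by norm_num)) hT
    hQ hd hg hI s c hc (by omega) ?_
  intro V₁ _ _ _ y hy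
  obtain ⟨h3, h4, h5⟩ := irr_rev_quad hc.irr hc.deg hc1
  exact ⟨hy.quad (by omega) c hc.irr hc.deg hc1, hy.quad (by omega) _ h3 h4 h5⟩

/-- `18 ≤ N`. -/
theorem step_big [Finite F] (hF : 3 ≤ Nat.card F) {N : ℕ} (h1 : 18 ≤ N)
    (hT : TT.{u, v} F (N - 2 * ((N - 2) / 4))) {V : Type v} [AddCommGroup V]
    [Module F V] [FiniteDimensional F V] {Q : QuadraticForm F V} (hQ : Nondeg Q)
    (hd : Module.finrank F V = N) {g : V ≃ₗ[F] V} (hg : g ∈ Om Q)
    (hI : IdFrame ((N - 2) / 4) Q g) (s : Fˣ) :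
    Sol Q g s (Out N) := by
  obtain ⟨c, hc, hnb⟩ := exists_good_nb F hF ((N - 2) / 4) (by omega)
  have h0 : c.coeff 0 ≠ 0 := coeff_zero_ne hc.irr (by rw [hc.deg]; omega)
  refine good_step (N₁ := N - 2 * ((N - 2) / 4)) (m := (N - 2) / 4) (by omega) (by omega) (by omega)
    (by omega) (Or.inr le_rfl) hT hQ hd hg hI s c hc (by omega) ?_
  intro V₁ _ _ _ y hy
  refine ⟨hy.low c hc.irr (by rw [hc.deg]; omega) (by rw [hc.deg]; omega) hnb,
    hy.low _ (irreducible_rev hc.irr h0) ?_ ?_ (hnb.rev h0)⟩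
  · rw [natDegree_rev h0, hc.deg]; omega
  · rw [natDegree_rev h0, hc.deg]; omega

/-- `15 ≤ N ≤ 17`. -/
theorem step_three [Finite F] (hF : 3 ≤ Nat.card F) {N : ℕ} (h1 : 15 ≤ N) (h2 : N ≤ 17)
    (hT : TT.{u, v} F (N - 6)) {V : Type v} [AddCommGroup V]
    [Module F V] [FiniteDimensional F V] {Q : QuadraticForm F V} (hQ : Nondeg Q)
    (hd : Module.finrank F V = N) {g : V ≃ₗ[F] V} (hg : g ∈ Om Q) (hI : IdFrame 3 Q g) (s : Fˣ) :
    Sol Q g s (Out N) := by
  refine idblock (N₁ := N - 6) (m := 3) (by omega) (by norm_num) (by omega) hT hQ hd hg hI s 1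
    (fun X => Irreducible (X : Matrix (Fin 3) (Fin 3) F).charpoly) ?_ ?_
  · intro V₁ _ _ _ y hy
    obtain ⟨c, hc, ⟨r, hr⟩, h3, h4⟩ := hy.cub (by omega)
    have h0 : c.coeff 0 ≠ 0 := coeff_zero_ne hc.irr (by rw [hc.deg]; norm_num)
    obtain ⟨X, hX⟩ := exists_matrix c hc.monic h0 hc.deg
    have hr0 : r ≠ 0 := by
      rintro rfl
      apply h0
      rw [mul_zero, neg_eq_zero] at hr
      exact hr
    have hdet : (X : Matrix (Fin 3) (Fin 3) F).det = r * r := by
      rw [det_eq_sign_charpoly_coeff, hX, Fintype.card_fin, ← hr]; ring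
    refine ⟨X, Units.mk0 r hr0, ?_, by rw [hX]; exact hc.irr, fun k => ?_⟩
    · rw [hdet]; simp
    · apply cop_of_charpoly
      · rw [hX]; exact h3.conj' k
      · rw [hX]; exact h4.conj' k
      · rw [hX]; exact hc.cop
  · intro V₁ _ _ _ y X hy hX
    refine ⟨fun c' h3 h4 h5 h6 => ?_, fun hN' => by omega, fun h => by omega, fun h => by omega⟩
    refine un_lev_of_deg h3 hX (charpoly_coeff_zero_ne X) (by omega) (hy.low c' h3 h4 ?_ h6)
    omega

/-! ### One-dimensional blocks -/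

theorem charpoly_one (X : GL (Fin 1) F) :
    (X : Matrix (Fin 1) (Fin 1) F).charpoly = Polynomial.X - C ((X : Matrix (Fin 1) (Fin 1) F) 0 0) := by
  rw [Matrix.charpoly, det_fin_one, charmatrix_apply_eq]

theorem ti_one_apply {X : GL (Fin 1) F} {β : F} (hβ : β ≠ 0)
    (hX : (X : Matrix (Fin 1) (Fin 1) F) 0 0 = β) :
    (ti X : Matrix (Fin 1) (Fin 1) F) 0 0 = β⁻¹ := by
  rw [ti_coe, transpose_apply]
  have h1 : ((X : Matrix (Fin 1) (Fin 1) F) * ((X⁻¹ : GL (Fin 1) F) : Matrix (Fin 1) (Fin 1) F)) 0 0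
      = 1 := by
    rw [← Units.val_mul, mul_inv_cancel]; simp
  rw [Matrix.mul_apply, Fin.sum_univ_one, hX] at h1
  exact eq_inv_of_mul_eq_one_right h1

section

variable {V : Type*} [AddCommGroup V] [Module F V]

theorem mulVec_one_eq (A : Matrix (Fin 1) (Fin 1) F) (a : Fin 1 → F) : A *ᵥ a = A 0 0 • a := by
  ext i
  obtain rfl := Subsingleton.elim i 0
  simp [mulVec, dotProduct]

theorem cop_one {X : GL (Fin 1) F} {β : F} (hβ : β ≠ 0)
    (hX : (X : Matrix (Fin 1) (Fin 1) F) 0 0 = β) {h : V ≃ₗ[F] V}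
    (h1 : Un (h : Module.End F V) (Polynomial.X - C β))
    (h2 : Un (h : Module.End F V) (Polynomial.X - C β⁻¹)) : Cop X h := by
  have alt : ∀ f : (Fin 1 → F) →ₗ[F] (Fin 1 → F), (∀ a, a ⬝ᵥ f a = 0) → f = 0 := by
    intro f hf
    apply LinearMap.ext
    intro a
    have e1 : f (fun _ => 1) = 0 := by
      ext i
      obtain rfl := Subsingleton.elim i 0
      have := hf (fun _ => 1)
      simpa [dotProduct] using this
    have e2 : a = a 0 • (fun _ => (1 : F)) := by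
      ext i
      obtain rfl := Subsingleton.elim i 0
      simp
    rw [e2, map_smul, e1]
    simp
  have ev : ∀ (γ : F) (v : V), aeval (h : Module.End F V) (Polynomial.X - C γ) v = h v - γ • v := by
    intro γ v
    simp [Module.algebraMap_end_apply]
  have hti := ti_one_apply hβ hX
  have A : ∀ γ : F, Un (h : Module.End F V) (Polynomial.X - C γ) →
      ∀ f : (Fin 1 → F) →ₗ[F] V, (∀ a, f (γ • a) = h (f a)) → f = 0 := by
    intro γ hγ f hf
    apply LinearMap.ext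
    intro a
    apply inj_of_unit hγ
    rw [ev, ← hf, map_smul, sub_self]
  have B : ∀ γ : F, Un (h : Module.End F V) (Polynomial.X - C γ) →
      ∀ f : V →ₗ[F] (Fin 1 → F), (∀ v, f (h v) = γ • f v) → f = 0 := by
    intro γ hγ f hf
    apply LinearMap.ext
    intro v
    obtain ⟨w, rfl⟩ := surj_of_unit hγ v
    rw [ev, map_sub, hf, map_smul, sub_self]; rfl
  refine ⟨fun f hf => A β h1 f fun a => ?_, fun f hf => B β⁻¹ h2 f fun v => ?_,
    fun f hf _ => alt f hf, fun f hf => A β⁻¹ h2 f fun a => ?_, fun f hf => B β h1 f fun v => ?_,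
    fun f hf _ => alt f hf⟩
  · rw [← hf, mulVec_one_eq, hX]
  · rw [hf, mulVec_one_eq, hti]
  · rw [← hf, mulVec_one_eq, hti]
  · rw [hf, mulVec_one_eq, hX]

end

theorem linOK_inv {β : F} (h : LinOK β) : LinOK β⁻¹ :=
  ⟨inv_ne_zero h.1, fun h1 => h.2.1 (by rw [inv_eq_one] at h1; exact h1), fun h2 => by
    rw [h.2.2 h2]; norm_num⟩

theorem exists_linOK [Finite F] (hF : 3 ≤ Nat.card F) : ∃ β : F, LinOK β := by
  by_cases h2 : (2 : F) = 0
  · classical
    have := Fintype.ofFinite F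
    rw [Nat.card_eq_fintype_card] at hF
    have : ∃ γ ∈ (Finset.univ : Finset F), γ ∉ ({0, 1} : Finset F) := by
      apply Finset.exists_mem_notMem_of_card_lt_card
      rw [Finset.card_univ]
      exact lt_of_le_of_lt (Finset.card_le_two) (by omega)
    obtain ⟨γ, -, hγ⟩ := this
    simp only [Finset.mem_insert, Finset.mem_singleton, not_or] at hγ
    exact ⟨γ, hγ.1, hγ.2, fun h => absurd h2 h⟩
  · refine ⟨-1, by simp, fun h => h2 ?_, fun _ => rfl⟩
    linear_combination -h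

/-- `N = 9, 10`. -/
theorem step_one [Finite F] (hF : 3 ≤ Nat.card F) {N : ℕ} (h1 : 9 ≤ N) (h2 : N ≤ 10)
    (hT : TT.{u, v} F (N - 2)) {V : Type v} [AddCommGroup V]
    [Module F V] [FiniteDimensional F V] {Q : QuadraticForm F V} (hQ : Nondeg Q)
    (hd : Module.finrank F V = N) {g : V ≃ₗ[F] V} (hg : g ∈ Om Q) (hI : IdFrame 1 Q g) (s : Fˣ) :
    Sol Q g s (Out N) := by
  obtain ⟨β, hβ⟩ := exists_linOK hF
  let X : GL (Fin 1) F := dg 0 (Units.mk0 β hβ.1)
  have hX : (X : Matrix (Fin 1) (Fin 1) F) 0 0 = β := by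
    show (diagonal (Function.update 1 0 ((Units.mk0 β hβ.1 : Fˣ) : F)) : Matrix _ _ F) 0 0 = β
    simp
  refine idblock (N₁ := N - 2) (m := 1) (by omega) (by norm_num) (by omega) hT hQ hd hg hI s
    (Units.mk0 β hβ.1) (fun X' => (X' : Matrix (Fin 1) (Fin 1) F) 0 0 = β) ?_ ?_
  · intro V₁ _ _ _ y hy
    refine ⟨X, 1, ?_, hX, fun k => ?_⟩
    · rw [det_fin_one, hX]; simp
    · exact cop_one hβ.1 hX ((hy.lin (by omega) β hβ).conj' k)
        ((hy.lin (by omega) β⁻¹ (linOK_inv hβ)).conj' k)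
  · intro V₁ _ _ _ y X' hy hX'
    have hirr : Irreducible (X' : Matrix (Fin 1) (Fin 1) F).charpoly := by
      rw [charpoly_one]; exact irreducible_X_sub_C _
    have h0 := charpoly_coeff_zero_ne X'
    refine ⟨fun c' h3 h4 h5 h6 => ?_, fun hN' => ?_, fun h c' h3 h4 h5 => ?_, fun h => by omega⟩
    · exact un_lev_of_deg h3 hirr h0 (by omega) (hy.low c' h3 h4 (by omega) h6)
    · obtain ⟨c₃, h3, h4, h5, h6⟩ := hy.cub (by omega)
      have h7 : c₃.coeff 0 ≠ 0 := coeff_zero_ne h3.irr (by rw [h3.deg]; norm_num)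
      refine ⟨c₃, h3, h4, un_lev_of_deg h3.irr hirr h0 ?_ h5,
        un_lev_of_deg (irreducible_rev h3.irr h7) hirr h0 ?_ h6⟩
      · rw [h3.deg]; norm_num
      · rw [natDegree_rev h7, h3.deg]; norm_num
    · exact un_lev_of_deg h3 hirr h0 (by omega) (hy.quad (by omega) c' h3 h4 h5)

end Cfsg.Agent.H140.OreO
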