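import Mathlib
import Cfsg.Agent.H140.OreO.RecB
import Cfsg.Agent.H140.OreO.GL3
import Cfsg.Agent.H140.OreO.GLConj
import Cfsg.Agent.H434.CornMain

/-!
# The base cases from a corner in `SL_3`, and splitting off `-1`
-/

set_option autoImplicit false
set_option linter.unusedSectionVars false
set_option linter.unusedSimpArgs false
set_option linter.unusedVariables false

namespace Cfsg.Agent.H140.OreO

open Polynomial Matrix QuadraticMap Cfsg.Agent.LieClassical.OrthCore
  Cfsg.Agent.LieClassical.OrthTrans Cfsg.Agent.LieClassical.OrthFinite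
open scoped commutatorElement

universe u v

/-! ### The `GL_3` lemma, scalar case included -/

namespace GL3

variable {F : Type*} [Field F]

theorem main' [Finite F] (hF : 3 ≤ Nat.card F) {A : Matrix (Fin 3) (Fin 3) F} (hdet : A.det = 1)
    (hr : 2 ≤ (A - 1).rank) {s : F} (hs : s ≠ 0) : Goal A s := by
  by_cases hns : ∀ c : F, A ≠ c • (1 : Matrix (Fin 3) (Fin 3) F)
  · exact main hF hdet hns hr hs
  push Not at hns
  obtain ⟨c, rfl⟩ := hns
  have hc3 : c ^ 3 = 1 := by
    rw [det_smul, det_one, mul_one, Fintype.card_fin] at hdet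
    exact hdet
  have hc1 : c ≠ 1 := by
    rintro rfl
    rw [one_smul, sub_self, rank_zero] at hr
    omega
  have hc0 : c ≠ 0 := by rintro rfl; simp at hc3
  -- a noncube in the class of `s`
  have hnc : ∃ u : F, ∀ x : F, x ^ 3 ≠ u := by
    by_contra hcon
    push Not at hcon
    have hsurj : Function.Surjective (fun x : F => x ^ 3) := hcon
    have hinj := (Finite.injective_iff_surjective.2 hsurj)
    exact hc1 (hinj (by simpa using hc3))
  obtain ⟨u, hu⟩ := hnc
  have hu0 : u ≠ 0 := fun h => hu 0 (by rw [h]; simp)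
  obtain ⟨z, hz0, hzs, hz⟩ : ∃ z : F, z ≠ 0 ∧ IsSquare (z * s) ∧ ∀ x : F, x ^ 3 ≠ z := by
    by_cases h : ∃ r, r ^ 3 = s
    · obtain ⟨r, rfl⟩ := h
      have hr0 : r ≠ 0 := by rintro rfl; simp at hs
      refine ⟨r ^ 3 * u ^ 2, mul_ne_zero hs (pow_ne_zero 2 hu0), ⟨r ^ 3 * u, by ring⟩, ?_⟩
      intro x hx
      have hx0 : x ≠ 0 := by
        rintro rfl
        rw [zero_pow (by norm_num)] at hx
        exact mul_ne_zero hs (pow_ne_zero 2 hu0) hx.symm
      apply hu (u * r / x)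
      rw [div_pow, hx]
      field_simp
    · push Not at h
      exact ⟨s, hs, ⟨s, rfl⟩, h⟩
  have hirr : Irreducible (X ^ 3 - C (0 : F) * X ^ 2 - C 0 * X - C z : F[X]) := by
    have e : (X ^ 3 - C (0 : F) * X ^ 2 - C 0 * X - C z : F[X]) = X ^ 3 - C z := by simp
    have hdeg : (X ^ 3 - C z : F[X]).natDegree = 3 := natDegree_X_pow_sub_C
    rw [e, Polynomial.irreducible_iff_roots_eq_zero_of_degree_le_three (by rw [hdeg]; norm_num)
      (by rw [hdeg]), Multiset.eq_zero_iff_forall_notMem]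
    intro r hr'
    have h1 := (mem_roots'.1 hr').2
    rw [IsRoot.def, eval_sub, eval_pow, eval_X, eval_C, sub_eq_zero] at h1
    exact hz r h1
  refine ⟨yy z 0 0, by rwa [det_yy], ?_, by rwa [charpoly_yy], by rwa [det_yy]⟩
  rw [charpoly_yy, charpoly_three, smul_mul, Matrix.one_mul, det_smul, det_yy, Fintype.card_fin, hc3]
  simp [yy, e2, trace_fin_three]

end GL3

variable {F : Type u} [Field F]

section

variable {V : Type*} [AddCommGroup V] [Module F V]

theorem un_one {c : F[X]} (h : c.eval 1 ≠ 0) : Un ((1 : V ≃ₗ[F] V) : Module.End F V) c := by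
  have e : aeval ((1 : V ≃ₗ[F] V) : Module.End F V) c = algebraMap F (Module.End F V) (c.eval 1) := by
    have h1 : ((1 : V ≃ₗ[F] V) : Module.End F V) = algebraMap F (Module.End F V) 1 := by
      rw [map_one]; rfl
    rw [h1, aeval_algebraMap_apply]
    rfl
  rw [Un, e]
  exact h.isUnit.map _

theorem eval_ne_zero {c : F[X]} (hc : Irreducible c) (hd : 2 ≤ c.natDegree) (x : F) :
    c.eval x ≠ 0 := by
  intro hx
  have h1 : X - C x ∣ c := dvd_iff_isRoot.2 hx
  obtain ⟨k, hk⟩ := h1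
  rcases hc.isUnit_or_isUnit hk with h2 | h2
  · have := natDegree_eq_zero_of_isUnit h2
    rw [natDegree_X_sub_C] at this
    omega
  · have h3 := natDegree_eq_zero_of_isUnit h2
    have h4 : c.natDegree ≤ 1 := by
      rw [hk]
      refine le_trans natDegree_mul_le ?_
      rw [natDegree_X_sub_C, h3]
    omega

theorem out_base [Finite F] (hF : 3 ≤ Nat.card F) [FiniteDimensional F V] {N : ℕ} {Y : GL (Fin 3) F}
    (hY : Irreducible (Y : Matrix (Fin 3) (Fin 3) F).charpoly) :
    Out N (lev Y (1 : V ≃ₗ[F] V)) := by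
  have hd : (Y : Matrix (Fin 3) (Fin 3) F).charpoly.natDegree = 3 := by
    rw [charpoly_natDegree_eq_dim, Fintype.card_fin]
  have h0 := charpoly_coeff_zero_ne Y
  refine ⟨fun c h1 h2 _ _ => ?_, fun _ => ?_, fun _ c h1 h2 _ => ?_, fun _ β hβ => ?_⟩
  · exact un_lev_of_deg h1 hY h0 (by omega) (un_one (eval_ne_zero h1 (by omega) 1))
  · obtain ⟨c, hc, hsq, c1, c2, c3, c4⟩ := exists_good_cubic_sq F hF _ hY hd
    have hc0 : c.coeff 0 ≠ 0 := coeff_zero_ne hc.irr (by rw [hc.deg]; norm_num)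
    have hcr := irreducible_rev hc.irr hc0
    refine ⟨c, hc, hsq, ?_, ?_⟩
    · exact un_lev (un_X c1) (un_one (eval_ne_zero hc.irr (by rw [hc.deg]; norm_num) 1)) (un_tiX c2)
    · exact un_lev (un_X c3) (un_one (eval_ne_zero hcr (by rw [natDegree_rev hc0, hc.deg]; norm_num) 1))
        (un_tiX c4)
  · exact un_lev_of_deg h1 hY h0 (by omega) (un_one (eval_ne_zero h1 (by omega) 1))
  · refine un_lev_of_deg (irreducible_X_sub_C β) hY h0 (by rw [natDegree_X_sub_C]; norm_num)
      (un_one ?_)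
    rw [eval_sub, eval_X, eval_C]
    exact sub_ne_zero.2 (Ne.symm hβ.2.1)

end

/-- The base condition. -/
def BC3 {V : Type*} [AddCommGroup V] [Module F V] (Q : QuadraticForm F V) (g : V → V) : Prop :=
  ∃ w w' : Fin 3 → V, Frame Q w w' ∧ SchurOne Q g w w' ∧ (corner Q g w w').det = 1 ∧
    (corner Q g w w' = 1 ∨ 2 ≤ (corner Q g w w' - 1).rank)

theorem goal_one [Finite F] {s : F} (hs : s ≠ 0) :
    GL3.Goal (1 : Matrix (Fin 3) (Fin 3) F) s := by
  obtain ⟨z₂, hi⟩ := GL3.exists_cubic s 0 hs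
  exact ⟨GL3.yy s z₂ 0, by rwa [GL3.det_yy], by rw [Matrix.one_mul], by rwa [GL3.charpoly_yy],
    by rw [GL3.det_yy]; exact ⟨s, rfl⟩⟩

/-- **The base.** -/
theorem base_T [Finite F] (hF : 3 ≤ Nat.card F) {N : ℕ} (hN : 5 ≤ N) {V : Type v} [AddCommGroup V]
    [Module F V] [FiniteDimensional F V] {Q : QuadraticForm F V} (hQ : Nondeg Q)
    (hd : Module.finrank F V = N) {g : V ≃ₗ[F] V} (hg : g ∈ O Q) (hB : BC3 Q g) (s : Fˣ) :
    Sol Q g s (Out N) := by
  obtain ⟨w, w', hf, hS, hdet, hA⟩ := hB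
  have he : ∀ v, MQ 3 (res Q w w') (hf.toModel v) = Q v := hf.MQ_toModel
  have hQ1 := hf.nondeg_res hQ
  have hG : Good (MQ 3 (res Q w w')) := by
    apply good_of_finite (nondeg_MQ hQ1)
    rw [← hf.toModel.finrank_eq, hd]; omega
  obtain ⟨Ym, hY0, hYc, hYi, hYs⟩ : GL3.Goal (corner Q g w w') (s : F) := by
    rcases hA with h | h
    · rw [h]; exact goal_one s.ne_zero
    · exact GL3.main' hF hdet h s.ne_zero
  let A : GL (Fin 3) F := Matrix.GeneralLinearGroup.mkOfDetNeZero (corner Q g w w')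
    (by rw [hdet]; exact one_ne_zero)
  let Y : GL (Fin 3) F := Matrix.GeneralLinearGroup.mkOfDetNeZero Ym hY0
  have hAc : (A : Matrix (Fin 3) (Fin 3) F) = corner Q g w w' := rfl
  have hYm : (Y : Matrix (Fin 3) (Fin 3) F) = Ym := rfl
  have hXY : ((A * Y : GL (Fin 3) F) : Matrix (Fin 3) (Fin 3) F).charpoly =
      (Y : Matrix (Fin 3) (Fin 3) F).charpoly := by
    rw [Units.val_mul, hAc, hYm, hYc]
  obtain ⟨K, hK, hKdet⟩ := exists_conj_matrix (A * Y) Y hXY (by rw [hYm]; exact hYi) 1 one_ne_zero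
  obtain ⟨r, hr⟩ := hYs
  have hr0 : r ≠ 0 := by
    rintro rfl
    rw [mul_zero] at hr
    exact mul_ne_zero hY0 s.ne_zero hr
  have hYd : (Y : Matrix (Fin 3) (Fin 3) F).charpoly.natDegree = 3 := by
    rw [charpoly_natDegree_eq_dim, Fintype.card_fin]
  have hYi' : Irreducible (Y : Matrix (Fin 3) (Fin 3) F).charpoly := by rw [hYm]; exact hYi
  have hYm' : (Y : Matrix (Fin 3) (Fin 3) F).charpoly.Monic := charpoly_monic _
  have h0 := charpoly_coeff_zero_ne Y
  have hcop : ∀ X : GL (Fin 3) F, (X : Matrix (Fin 3) (Fin 3) F).charpoly =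
      (Y : Matrix (Fin 3) (Fin 3) F).charpoly → Cop X (1 : perp Q w w' ≃ₗ[F] perp Q w w') := by
    intro X hX
    apply cop_of_charpoly
    · rw [hX]; exact un_one (eval_ne_zero hYi' (by omega) 1)
    · rw [hX]
      exact un_one (eval_ne_zero (irreducible_rev hYi' h0) (by rw [natDegree_rev h0]; omega) 1)
    · rw [hX]; exact cubic_coprime_rev hYi' hYm' hYd
  refine Sol.of_autE he (R' := Out N) ?_ (fun y h => h.of_autE)
  have key := base hG (by norm_num) ((autE_mem_O he).2 hg) (A := A) (Y := Y) (K := K)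
    (s := Units.mk0 _ ((Matrix.isUnit_iff_isUnit_det _).1 Y.isUnit).ne_zero)
    (fun a => corner_model hf g a) (schur_model hf hS)
    (by rw [← hK, mul_inv_cancel_right]) hKdet rfl (hcop _ (by rw [← hK]; exact hXY)) (hcop _ rfl)
  obtain ⟨k, hk, y, hy, e, v, rfl⟩ := key
  refine ⟨k, hk, _, ?_, e, (out_base hF hYi').conj v⟩
  -- adjust the class
  have hy2 := hy.sq hG (t := s * (Units.mk0 r hr0)⁻¹)
  convert hy2 using 1
  apply Units.ext
  simp only [Units.val_mul, Units.val_inv_eq_inv_val, Units.val_mk0]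
  rw [hYm]
  have hs0 := s.ne_zero
  have : Ym.det = r * r * (s : F)⁻¹ := by rw [← hr]; field_simp
  rw [this]
  field_simp

end Cfsg.Agent.H140.OreO
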