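import Mathlib
import Cfsg.Agent.H140.OreO.BaseT
import Cfsg.Agent.H958.Ore.IB

/-!
# Splitting off a block `-1`; frames; the recursion for odd `N`
-/

set_option autoImplicit false
set_option linter.unusedSectionVars false
set_option linter.unusedSimpArgs false
set_option linter.unusedVariables false

namespace Cfsg.Agent.H140.OreO

open Polynomial Matrix QuadraticMap Cfsg.Agent.LieClassical.OrthCore
  Cfsg.Agent.LieClassical.OrthTrans Cfsg.Agent.LieClassical.OrthFinite
open scoped commutatorElement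

universe u v

variable {F : Type u} [Field F]

/-! ### Frames -/

section

variable {V : Type*} [AddCommGroup V] [Module F V] {Q : QuadraticForm F V}

theorem Frame.cons {n : ℕ} {w w' : Fin n → V} (hf : Frame Q w w') {x y : V}
    (hx : x ∈ perp Q w w') (hy : y ∈ perp Q w w') (h : Hyp Q x y) :
    Frame Q (Fin.cons x w : Fin (n + 1) → V) (Fin.cons y w' : Fin (n + 1) → V) where
  sl := fun i => by
    refine Fin.cases ?_ (fun i => ?_) i
    · simpa using h.left
    · simpa using hf.sl i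
  sr := fun i => by
    refine Fin.cases ?_ (fun i => ?_) i
    · simpa using h.right
    · simpa using hf.sr i
  ll := fun i j => by
    refine Fin.cases ?_ (fun i => ?_) i <;> refine Fin.cases ?_ (fun j => ?_) j
    · simpa using h.polar_left
    · simpa using polar_zero_of_comm (hx j).1
    · simpa using (hx i).1
    · simpa using hf.ll i j
  rr := fun i j => by
    refine Fin.cases ?_ (fun i => ?_) i <;> refine Fin.cases ?_ (fun j => ?_) j
    · simpa using h.polar_right
    · simpa using polar_zero_of_comm (hy j).2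
    · simpa using (hy i).2
    · simpa using hf.rr i j
  lr := fun i j => by
    refine Fin.cases ?_ (fun i => ?_) i <;> refine Fin.cases ?_ (fun j => ?_) j
    · simpa using h.pair
    · simpa [Fin.succ_ne_zero, eq_comm] using polar_zero_of_comm (hx j).2
    · simpa [Fin.succ_ne_zero] using (hy i).1
    · simpa [Fin.succ_inj] using hf.lr i j

theorem exists_frame [Finite F] [FiniteDimensional F V] (hQ : Nondeg Q) (m : ℕ)
    (hm : 2 * m + 1 ≤ Module.finrank F V) : ∃ w w' : Fin m → V, Frame Q w w' := by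
  induction m with
  | zero => exact ⟨Fin.elim0, Fin.elim0, ⟨fun i => i.elim0, fun i => i.elim0, fun i => i.elim0,
      fun i => i.elim0, fun i => i.elim0⟩⟩
  | succ m ih =>
    obtain ⟨w, w', hf⟩ := ih (by omega)
    have h1 := hf.finrank_perp
    obtain ⟨x, hx0, hx, -⟩ := exists_sing_perp (Q := res Q w w') (n := 0) ![] (by omega)
    obtain ⟨y, hy⟩ := exists_hyp (hf.nondeg_res hQ) hx hx0
    exact ⟨_, _, hf.cons x.2 y.2 ⟨hy.left, hy.right, hy.pair⟩⟩

theorem bc3_one [Finite F] [FiniteDimensional F V] (hQ : Nondeg Q)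
    (hd : 7 ≤ Module.finrank F V) : BC3 Q (1 : V ≃ₗ[F] V) := by
  obtain ⟨w, w', hf⟩ := exists_frame hQ 3 (by omega)
  have hc : corner Q (1 : V ≃ₗ[F] V) w w' = 1 := by
    ext i j
    rw [corner_apply, LinearEquiv.coe_one, id, hf.lr, Matrix.one_apply]
    simp only [eq_comm]
  refine ⟨w, w', hf, fun v _ => ⟨0, 0, by simp⟩, by rw [hc, det_one], Or.inl hc⟩

end

/-! ### A block `-1` -/

theorem exists_sq_add_sq [Finite F] (h2 : (2 : F) ≠ 0) : ∃ a b : F, a * a + b * b = -1 := by
  have := Fintype.ofFinite F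
  have hodd : Fintype.card F % 2 = 1 := by
    apply FiniteField.odd_card_of_char_ne_two
    intro h
    apply h2
    have := ringChar.spec F 2
    have h3 : ((2 : ℕ) : F) = 0 := by
      rw [this, h]
    exact_mod_cast h3
  obtain ⟨a, b, h⟩ := FiniteField.exists_root_sum_quadratic (R := F) (f := X ^ 2 + C 1) (g := X ^ 2)
    (by rw [degree_X_pow_add_C (by norm_num)]; rfl) (by rw [degree_X_pow]; rfl) hodd
  refine ⟨a, b, ?_⟩
  simp only [eval_add, eval_pow, eval_X, eval_C] at h
  linear_combination h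

theorem un_lev_quad {V : Type*} [AddCommGroup V] [Module F V] [FiniteDimensional F V] {m : ℕ}
    {X : GL (Fin m) F} {y : V ≃ₗ[F] V} {c : F[X]} (hc : Irreducible c) (hcm : m < c.natDegree)
    (hy : Un (y : Module.End F V) c) :
    Un ((lev X y : M F V m ≃ₗ[F] M F V m) : Module.End F (M F V m)) c := by
  have hdeg : (X : Matrix (Fin m) (Fin m) F).charpoly.natDegree = m := by
    rw [charpoly_natDegree_eq_dim, Fintype.card_fin]
  have h0 := charpoly_coeff_zero_ne X
  have hm := (X : Matrix (Fin m) (Fin m) F).charpoly_monic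
  refine un_lev (un_X (coprime_of_deg hc hm.ne_zero (by omega))) hy
    (un_tiX (coprime_of_deg hc ?_ ?_))
  · intro h
    exact hm.ne_zero (reverse_eq_zero.1 h)
  · rw [natDegree_rev h0, hdeg]
    exact hcm

theorem step_neg [Finite F] (h2 : (2 : F) ≠ 0) {N : ℕ} (h1 : 11 ≤ N)
    (hT : TT.{u, v} F (N - 4)) {V : Type v} [AddCommGroup V]
    [Module F V] [FiniteDimensional F V] {Q : QuadraticForm F V} (hQ : Nondeg Q)
    (hd : Module.finrank F V = N) {g : V ≃ₗ[F] V} (hg : g ∈ Om Q)
    (hI : ∃ w w' : Fin 2 → V, Frame Q w w' ∧ ∀ i, g (w i) = - w i ∧ g (w' i) = - w' i) (s : Fˣ) :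
    Sol Q g s (Out N) := by
  obtain ⟨w, w', hf, hw⟩ := hI
  have he : ∀ v, MQ 2 (res Q w w') (hf.toModel v) = Q v := hf.MQ_toModel
  have hV1 : Module.finrank F (perp Q w w') = N - 4 := by
    have := hf.finrank_perp; omega
  have hQ1 := hf.nondeg_res hQ
  have hG : Good (MQ 2 (res Q w w')) := by
    apply good_of_finite (nondeg_MQ hQ1)
    rw [← hf.toModel.finrank_eq, hd]; omega
  have hG1 : Good (res Q w w') := good_of_finite hQ1 (by omega)
  refine Sol.of_autE he (R' := Out N) ?_ (fun y h => h.of_autE)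
  set G := autE hf.toModel g with hGdef
  have hGm : G ∈ Om (MQ 2 (res Q w w')) := (autE_mem_Om he).2 hg
  -- the matrix `-1`
  let Z : GL (Fin 2) F := -1
  have hZm : (Z : Matrix (Fin 2) (Fin 2) F) = -1 := rfl
  have hZi : ((Z⁻¹ : GL (Fin 2) F) : Matrix (Fin 2) (Fin 2) F) = -1 := by
    have : Z⁻¹ = Z := by
      rw [inv_eq_iff_mul_eq_one]; show (-1 : GL (Fin 2) F) * -1 = 1
      rw [neg_mul_neg, one_mul]
    rw [this, hZm]
  have hZt : (ti Z : Matrix (Fin 2) (Fin 2) F) = -1 := by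
    rw [ti_coe, hZi, transpose_neg, transpose_one]
  have hZit : (ti Z⁻¹ : Matrix (Fin 2) (Fin 2) F) = -1 := by
    rw [ti_coe, inv_inv, hZm, transpose_neg, transpose_one]
  have hG1' : ∀ a, G (a, 0, 0) = (-a, 0, 0) := by
    intro a
    rw [hGdef, autE_apply, ← hf.toModel.eq_symm_apply, hf.toModel_symm_apply, hf.toModel_symm_apply]
    simp [map_sum, (hw _).1]
    rw [add_comm]
  have hG2' : ∀ a, G (0, 0, a) = (0, 0, -a) := by
    intro a
    rw [hGdef, autE_apply, ← hf.toModel.eq_symm_apply, hf.toModel_symm_apply, hf.toModel_symm_apply]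
    simp [map_sum, (hw _).2]
    rw [add_comm]
  have hZ1 : lev Z (1 : perp Q w w' ≃ₗ[F] perp Q w w') ∈ Om (MQ 2 (res Q w w')) := by
    apply lev_det_one_mem hG
    rw [hZm, det_fin_two]; simp
  let p := (lev Z (1 : perp Q w w' ≃ₗ[F] perp Q w w'))⁻¹ * G
  have hp : p ∈ Om (MQ 2 (res Q w w')) := (Om _).mul_mem ((Om _).inv_mem hZ1) hGm
  have hp1 : ∀ a, p (a, 0, 0) = (a, 0, 0) := by
    intro a
    show (lev Z (1 : perp Q w w' ≃ₗ[F] perp Q w w'))⁻¹ (G (a, 0, 0)) = _
    rw [hG1', ← lev_inv, lev_apply, hZi]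
    simp [neg_mulVec]
  have hp2 : ∀ a, p (0, 0, a) = (0, 0, a) := by
    intro a
    show (lev Z (1 : perp Q w w' ≃ₗ[F] perp Q w w'))⁻¹ (G (0, 0, a)) = _
    rw [hG2', ← lev_inv, lev_apply, hZit]
    simp [neg_mulVec]
  obtain ⟨g₁, hg₁, u, hu, e⟩ := fixW (Om_le hp) hp1
  have hu2 : ∀ a, u (0, 0, a) = (0, 0, a) := by
    intro a
    have : u = (lev (1 : GL (Fin 2) F) g₁)⁻¹ * p := by rw [e, inv_mul_cancel_left]
    rw [this]
    show (lev (1 : GL (Fin 2) F) g₁)⁻¹ (p (0, 0, a)) = _
    rw [hp2, ← lev_inv, lev_apply, inv_one, ti_one]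
    simp
  have hu1 : u = 1 := by
    apply LinearEquiv.ext
    rintro ⟨a, v, b⟩
    have e1 : u (a, 0, 0) = (a, 0, 0) := hu.2.2.2 _ rfl rfl
    have e2 : u (0, v, 0) = (0, v, 0) := by
      refine Prod.ext ?_ (Prod.ext (hu.2.2.1 _ rfl) (hu.2.1 _))
      ext i
      have := polar_map hu.1 (0, v, 0) (0, 0, Pi.single i 1)
      rw [hu2, polar_MQ, polar_MQ] at this
      simpa using this
    have e3 : ((a, v, b) : M F (perp Q w w') 2) = (a, 0, 0) + ((0, v, 0) + (0, 0, b)) := by
      refine Prod.ext (by simp) (Prod.ext (by simp) (by simp))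
    rw [e3, map_add, map_add, e1, e2, hu2]
    rfl
  have hGe : G = lev Z g₁ := by
    have : G = lev Z (1 : perp Q w w' ≃ₗ[F] perp Q w w') * p := by
      show G = lev Z 1 * ((lev Z 1)⁻¹ * G)
      rw [mul_inv_cancel_left]
    rw [this, e, hu1, mul_one, ← lev_mul, one_mul, mul_one]
  have hg₁' : g₁ ∈ Om (res Q w w') := by
    apply H141.SpinFacts.Om_of_lev hQ1 (by omega) hg₁ (n := 2)
    rw [e, hu1, mul_one] at hp
    exact hp
  obtain ⟨k₁, hk₁, y₁, hy₁, e₁, hO⟩ := hT _ _ hQ1 hV1 g₁ hg₁' s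
  obtain ⟨a, b, hab⟩ := exists_sq_add_sq h2
  let Y : GL (Fin 2) F := Matrix.GeneralLinearGroup.mkOfDetNeZero !![0, -1; 1, 0]
    (by rw [det_fin_two]; simp)
  let K : GL (Fin 2) F := Matrix.GeneralLinearGroup.mkOfDetNeZero !![a, b; b, -a]
    (by
      rw [det_fin_two_of]
      have : a * -a - b * b = 1 := by linear_combination -hab
      rw [this]; exact one_ne_zero)
  have hYm : (Y : Matrix (Fin 2) (Fin 2) F) = !![0, -1; 1, 0] := rfl
  have hKm : (K : Matrix (Fin 2) (Fin 2) F) = !![a, b; b, -a] := rfl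
  have hKY : K * Y = Z * Y * K := by
    apply Units.ext
    rw [Units.val_mul, Units.val_mul, Units.val_mul, hYm, hKm, hZm]
    ext i j
    fin_cases i <;> fin_cases j <;> simp [Matrix.mul_apply, Fin.sum_univ_two]
  have hYd : (Y : Matrix (Fin 2) (Fin 2) F).det = ((1 : Fˣ) : F) := by
    rw [hYm, det_fin_two_of]; simp
  have hKd : (K : Matrix (Fin 2) (Fin 2) F).det = 1 := by
    rw [hKm, det_fin_two_of]; linear_combination -hab
  refine ⟨lev K k₁, ?_, lev Y y₁, ?_, ?_, ?_⟩
  · have : lev K k₁ = lev K 1 * lev 1 k₁ := by rw [← lev_mul, mul_one, one_mul]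
    rw [this]
    exact (Om _).mul_mem (lev_det_one_mem hG hKd) (levV_mem hk₁)
  · have := lev_cl_mul hG (by norm_num) hYd hy₁ hG1.exists_hyp
    rwa [one_mul] at this
  · rw [hGe, ← lev_inv, ← lev_inv, ← lev_mul, ← lev_mul, ← lev_mul, ← e₁, hKY]
    congr 1
    group
  · refine ⟨fun c' h3 h4 h5 h6 => ?_, fun hN' => ?_, fun h => by omega, fun h => by omega⟩
    · exact un_lev_quad h3 (by omega) (hO.low c' h3 h4 (by omega) h6)
    · obtain ⟨c₃, h3, h4, h5, h6⟩ := hO.cub (by omega)
      have h7 : c₃.coeff 0 ≠ 0 := coeff_zero_ne h3.irr (by rw [h3.deg]; norm_num)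
      exact ⟨c₃, h3, h4, un_lev_quad h3.irr (by rw [h3.deg]; norm_num) h5,
        un_lev_quad (irreducible_rev h3.irr h7) (by rw [natDegree_rev h7, h3.deg]; norm_num) h6⟩

/-! ### The recursion for `11 ≤ N` -/

theorem TT_big [Finite F] (hF : 3 ≤ Nat.card F) {N : ℕ} (hN : 11 ≤ N)
    (ih : ∀ N' < N, 7 ≤ N' → N' % 2 = N % 2 → TT.{u, v} F N') : TT.{u, v} F N := by
  intro V _ _ _ Q hQ hd g hg s
  have neg : ∀ m : ℕ, 2 * m + 3 ≤ N → (2 : F) ≠ 0 →
      Module.finrank F (LinearMap.range ((g : V →ₗ[F] V) + 1)) < m → Sol Q g s (Out N) := by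
    intro m hm h2 hr
    exact step_neg h2 hN (ih (N - 4) (by omega) (by omega) (by omega)) hQ hd hg
      (H958.Ore.exists_neg_frame hQ hr (by omega)) s
  have key : ∀ m : ℕ, 2 * m + 3 ≤ N → 4 * m + 2 ≤ N → 3 * m + 4 ≤ N →
      (IdFrame m Q g → Sol Q g s (Out N)) → Sol Q g s (Out N) := by
    intro m h1 h2 h3 h4
    by_cases h : (2 : F) ≠ 0 ∧ Module.finrank F (LinearMap.range ((g : V →ₗ[F] V) + 1)) < m
    · exact neg m h1 h.1 h.2
    · refine h4 (H958.Ore.idFrame hQ (Om_le hg) (by omega) (by omega) fun h5 => ?_)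
      by_contra h6
      exact h ⟨h5, by omega⟩
  rcases Nat.lt_or_ge N 15 with h1 | h1
  · exact key 2 (by omega) (by omega) (by omega) fun hI =>
      step_two hF hN (by omega) (ih (N - 4) (by omega) (by omega) (by omega)) hQ hd hg hI s
  rcases Nat.lt_or_ge N 18 with h2 | h2
  · exact key 3 (by omega) (by omega) (by omega) fun hI =>
      step_three hF h1 (by omega) (ih (N - 6) (by omega) (by omega) (by omega)) hQ hd hg hI s
  · exact key ((N - 2) / 4) (by omega) (by omega) (by omega) fun hI =>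
      step_big hF h2 (ih _ (by omega) (by omega) (by omega)) hQ hd hg hI s

/-! ### The base for odd `N` -/

theorem exists_Q_ne {V : Type*} [AddCommGroup V] [Module F V] {Q : QuadraticForm F V}
    (hQ : Nondeg Q) (hd : 0 < Module.finrank F V) : ∃ v, Q v ≠ 0 := by
  by_contra hcon
  push Not at hcon
  have : Nontrivial V := Module.nontrivial_of_finrank_pos hd
  obtain ⟨x, hx⟩ := exists_ne (0 : V)
  apply hx
  apply hQ
  intro y
  rw [polar, hcon, hcon, hcon]
  ring

theorem scalar_sq {V : Type*} [AddCommGroup V] [Module F V] {Q : QuadraticForm F V}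
    (hQ : Nondeg Q) (hd : 0 < Module.finrank F V) {g : V ≃ₗ[F] V} (hg : g ∈ O Q) {c : F}
    (hc : ∀ v, g v = c • v) : c * c = 1 := by
  obtain ⟨v, hv⟩ := exists_Q_ne hQ hd
  have h1 := mem_O.1 hg v
  rw [hc, QuadraticMap.map_smul, smul_eq_mul] at h1
  exact mul_right_cancel₀ hv (by rw [h1, one_mul])

theorem scalar_pow {V : Type*} [AddCommGroup V] [Module F V] [FiniteDimensional F V]
    {Q : QuadraticForm F V} {g : V ≃ₗ[F] V} (hg : g ∈ Om Q) {c : F}
    (hc : ∀ v, g v = c • v) : c ^ Module.finrank F V = 1 := by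
  have h1 := H141.SpinFacts.det_eq_one' hg
  have h2 : (g : V →ₗ[F] V) = c • LinearMap.id := by
    apply LinearMap.ext
    intro v
    exact hc v
  rw [h2, LinearMap.det_smul, LinearMap.det_id, mul_one] at h1
  exact h1

theorem scalar_odd {V : Type*} [AddCommGroup V] [Module F V] [FiniteDimensional F V]
    {Q : QuadraticForm F V} (hQ : Nondeg Q) (hd : Module.finrank F V % 2 = 1)
    {g : V ≃ₗ[F] V} (hg : g ∈ Om Q) {c : F} (hc : ∀ v, g v = c • v) : c = 1 := by
  have h1 := scalar_sq hQ (by omega) (Om_le hg) hc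
  have h2 := scalar_pow hg hc
  obtain ⟨k, hk⟩ : ∃ k, Module.finrank F V = 2 * k + 1 := ⟨Module.finrank F V / 2, by omega⟩
  rw [hk, pow_succ, pow_mul, pow_two, h1, one_pow, one_mul] at h2
  exact h2

theorem TT_seven [Finite F] (hF : 3 ≤ Nat.card F) : TT.{u, v} F 7 := by
  intro V _ _ _ Q hQ hd g hg s
  refine base_T hF (by norm_num) hQ hd (Om_le hg) ?_ s
  by_cases h : ∃ c : F, ∀ v, g v = c • v
  · obtain ⟨c, hc⟩ := h
    obtain rfl := scalar_odd hQ (by omega) hg hc
    have : g = 1 := by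
      apply LinearEquiv.ext
      intro v
      rw [hc, one_smul]; rfl
    rw [this]
    exact bc3_one hQ (by omega)
  · push Not at h
    obtain ⟨m, h1, h2, h3, w, w', hf, hS, hdet, hA⟩ :=
      H434.Corn.exists_baseCorner hQ (by omega) hg h
    obtain rfl : m = 3 := by omega
    exact ⟨w, w', hf, hS, hdet, hA.imp id fun h => h.2⟩

/-- A nonscalar element, or `g + 1 ≠ 0`. -/
theorem rank_pos {V : Type*} [AddCommGroup V] [Module F V] [FiniteDimensional F V]
    {g : V ≃ₗ[F] V} (h : ∃ v, g v ≠ - v) :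
    1 ≤ Module.finrank F (LinearMap.range ((g : V →ₗ[F] V) + 1)) := by
  obtain ⟨v, hv⟩ := h
  rw [Nat.one_le_iff_ne_zero]
  intro h0
  rw [Submodule.finrank_eq_zero, LinearMap.range_eq_bot] at h0
  apply hv
  have := LinearMap.congr_fun h0 v
  exact eq_neg_of_add_eq_zero_left this

/-- **Odd dimension.** -/
theorem TT_odd [Finite F] (hF : 3 ≤ Nat.card F) (h2 : (2 : F) ≠ 0) (N : ℕ) (hN : 7 ≤ N)
    (hodd : N % 2 = 1) : TT.{u, v} F N := by
  induction N using Nat.strong_induction_on with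
  | _ N ih =>
    rcases Nat.lt_or_ge N 11 with h | h
    · obtain rfl | rfl : N = 7 ∨ N = 9 := by omega
      · exact TT_seven hF
      · intro V _ _ _ Q hQ hd g hg s
        refine step_one hF le_rfl (by norm_num) (TT_seven hF) hQ hd hg ?_ s
        refine H958.Ore.idFrame hQ (Om_le hg) (by omega) (by omega) fun _ => rank_pos ?_
        by_contra hcon
        push Not at hcon
        have := scalar_odd hQ (by omega) hg (c := -1) (fun v => by rw [hcon, neg_smul, one_smul])
        apply h2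
        linear_combination -this
    · exact TT_big hF h fun N' h1 h2 h3 => ih N' h1 h2 (by omega)

end Cfsg.Agent.H140.OreO
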