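import Mathlib
import Cfsg.Agent.H140.OreO.RecC

/-!
# The element `-1` in dimension `8`
-/

set_option autoImplicit false
set_option linter.unusedSectionVars false
set_option linter.unusedSimpArgs false
set_option linter.unusedVariables false

namespace Cfsg.Agent.H140.OreO

open Polynomial Matrix QuadraticMap Cfsg.Agent.LieClassical.OrthCore
  Cfsg.Agent.LieClassical.OrthTrans Cfsg.Agent.LieClassical.OrthFinite
open scoped commutatorElement

universe u v

variable {F : Type u} [Field F]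

/-! ### Biquadratic polynomials -/

/-- `t⁴ - τ t² + δ`. -/
noncomputable def BP (τ δ : F) : F[X] := X ^ 4 - C τ * X ^ 2 + C δ

theorem BP_coeff_four (τ δ : F) : (BP τ δ).coeff 4 = 1 := by simp [BP, coeff_X, coeff_C]
theorem BP_coeff_three (τ δ : F) : (BP τ δ).coeff 3 = 0 := by simp [BP, coeff_X, coeff_C]
theorem BP_coeff_two (τ δ : F) : (BP τ δ).coeff 2 = -τ := by simp [BP, coeff_X, coeff_C]
theorem BP_coeff_one (τ δ : F) : (BP τ δ).coeff 1 = 0 := by simp [BP, coeff_X, coeff_C]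
theorem BP_coeff_zero (τ δ : F) : (BP τ δ).coeff 0 = δ := by simp [BP, coeff_X, coeff_C]

theorem BP_natDegree (τ δ : F) : (BP τ δ).natDegree = 4 := by
  rw [BP]
  compute_degree!

theorem BP_ne (τ δ : F) : BP τ δ ≠ 0 := by
  intro h
  have := BP_coeff_four τ δ
  rw [h] at this
  simp at this

theorem BP_eval (τ δ x : F) : (BP τ δ).eval x = x ^ 4 - τ * x ^ 2 + δ := by simp [BP]

/-- The conditions on the coefficients. -/
structure BQ (τ δ : F) : Prop where
  two : (2 : F) ≠ 0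
  ne : δ ≠ 0
  sq : ¬ IsSquare δ ∨ (δ = 1 ∧ τ = -2)
  one : 1 - τ + δ ≠ 0

theorem BQ.inv {τ δ : F} (h : BQ τ δ) : BQ (τ * δ⁻¹) δ⁻¹ where
  two := h.two
  ne := inv_ne_zero h.ne
  sq := by
    rcases h.sq with h1 | ⟨rfl, rfl⟩
    · left
      rintro ⟨r, hr⟩
      apply h1
      refine ⟨r⁻¹, ?_⟩
      rw [← _root_.mul_inv, ← hr, inv_inv]
    · right; simp
  one := by
    have h1 := h.ne
    have : 1 - τ * δ⁻¹ + δ⁻¹ = (1 - τ + δ) * δ⁻¹ := by field_simp; ring
    rw [this]
    exact mul_ne_zero h.one (inv_ne_zero h1)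

theorem BQ.coprime_four {τ δ : F} (h : BQ τ δ) {c : F[X]} (hc : Irreducible c)
    (hd : 3 < c.natDegree) (hn : NB c) : IsCoprime c (BP τ δ) := by
  rw [hc.coprime_iff_not_dvd]
  rintro ⟨d, hcd⟩
  have hd0 : d ≠ 0 := by
    rintro rfl
    rw [mul_zero] at hcd
    exact BP_ne _ _ hcd
  have h1 : c.natDegree + d.natDegree = 4 := by
    rw [← natDegree_mul hc.ne_zero hd0, ← hcd, BP_natDegree]
  have h2 : d.natDegree = 0 := by omega
  obtain ⟨k, rfl⟩ := natDegree_eq_zero.1 h2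
  have hk : k ≠ 0 := by rintro rfl; simp at hd0
  rcases hn h.two (by omega) with h3 | h3
  · apply h3
    have := congrArg (fun p => p.coeff 1) hcd
    simp only [BP_coeff_one, coeff_mul_C] at this
    exact (mul_eq_zero.1 this.symm).resolve_right hk
  · apply h3
    have := congrArg (fun p => p.coeff 3) hcd
    simp only [BP_coeff_three, coeff_mul_C] at this
    exact (mul_eq_zero.1 this.symm).resolve_right hk

theorem BQ.coprime_three {τ δ : F} (h : BQ τ δ) {c : F[X]} (hc : Irreducible c)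
    (hd : c.natDegree = 3) : IsCoprime c (BP τ δ) := by
  rw [hc.coprime_iff_not_dvd]
  rintro ⟨d, hcd⟩
  have hd0 : d ≠ 0 := by
    rintro rfl
    rw [mul_zero] at hcd
    exact BP_ne _ _ hcd
  have h1 : c.natDegree + d.natDegree = 4 := by
    rw [← natDegree_mul hc.ne_zero hd0, ← hcd, BP_natDegree]
  obtain ⟨r, hr⟩ := exists_root_of_degree_eq_one
    (degree_eq_iff_natDegree_eq_of_pos (by norm_num) |>.2 (show d.natDegree = 1 by omega))
  have h3 : (BP τ δ).eval r = 0 := by rw [hcd, eval_mul, hr, mul_zero]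
  have hr0 : r ≠ 0 := by
    rintro rfl
    rw [BP_eval] at h3
    apply h.ne
    linear_combination h3
  have h4 : (BP τ δ).eval (-r) = 0 := by
    rw [BP_eval] at h3 ⊢
    linear_combination h3
  rw [hcd, eval_mul] at h4
  rcases mul_eq_zero.1 h4 with h5 | h5
  · exact eval_ne_zero hc (by omega) _ h5
  · -- both `r` and `-r` are roots of the linear `d`
    have h6 : X - C r ∣ d := dvd_iff_isRoot.2 hr
    obtain ⟨e, he⟩ := h6
    have he0 : e ≠ 0 := by rintro rfl; rw [mul_zero] at he; exact hd0 he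
    have h7 : e.natDegree = 0 := by
      have := natDegree_mul (X_sub_C_ne_zero r) he0
      rw [← he, natDegree_X_sub_C] at this
      omega
    obtain ⟨k, rfl⟩ := natDegree_eq_zero.1 h7
    have hk : k ≠ 0 := by rintro rfl; simp at he0
    rw [he, eval_mul, eval_sub, eval_X, eval_C, eval_C] at h5
    have h8 := (mul_eq_zero.1 h5).resolve_right hk
    apply mul_ne_zero h.two hr0
    linear_combination -h8

theorem BQ.coprime_two {τ δ : F} (h : BQ τ δ) {c : F[X]} (hc : Irreducible c)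
    (hd : c.natDegree = 2) (hc1 : c.coeff 1 ≠ 0) : IsCoprime c (BP τ δ) := by
  rw [hc.coprime_iff_not_dvd]
  intro hdvd
  have hcq : c = C (c.coeff 2) * X ^ 2 + C (c.coeff 1) * X + C (c.coeff 0) :=
    eq_quadratic_of_degree_le_two (degree_le_of_natDegree_le (n := 2) (by omega))
  have hc2 : c.coeff 2 ≠ 0 := by
    have := leadingCoeff_ne_zero.2 hc.ne_zero
    rwa [leadingCoeff, hd] at this
  rcases h.sq with h1 | ⟨rfl, rfl⟩
  · obtain ⟨d, hcd⟩ := hdvd
    have hd0 : d ≠ 0 := by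
      rintro rfl
      rw [mul_zero] at hcd
      exact BP_ne _ _ hcd
    have h2 : c.natDegree + d.natDegree = 4 := by
      rw [← natDegree_mul hc.ne_zero hd0, ← hcd, BP_natDegree]
    have hdq : d = C (d.coeff 2) * X ^ 2 + C (d.coeff 1) * X + C (d.coeff 0) :=
      eq_quadratic_of_degree_le_two (degree_le_of_natDegree_le (n := 2) (by omega))
    set a := c.coeff 2
    set b := c.coeff 1
    set e := c.coeff 0
    set d2 := d.coeff 2
    set d1 := d.coeff 1
    set d0 := d.coeff 0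
    have hprod : c * d = C (a * d2) * X ^ 4 + C (a * d1 + b * d2) * X ^ 3 +
        C (a * d0 + b * d1 + e * d2) * X ^ 2 + C (b * d0 + e * d1) * X + C (e * d0) := by
      rw [hcq, hdq]
      simp only [map_mul, map_add]
      ring
    rw [← hcd] at hprod
    have c4 := congrArg (fun p => p.coeff 4) hprod
    have c3 := congrArg (fun p => p.coeff 3) hprod
    have c1 := congrArg (fun p => p.coeff 1) hprod
    have c0 := congrArg (fun p => p.coeff 0) hprod
    simp only [BP_coeff_four, BP_coeff_three, BP_coeff_one, BP_coeff_zero] at c4 c3 c1 c0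
    simp [coeff_X, coeff_C, -map_mul, -map_add] at c4 c3 c1 c0
    apply h1
    refine ⟨e * a⁻¹, ?_⟩
    have h5 : a * d0 = e * d2 := by
      apply mul_left_cancel₀ hc1
      linear_combination a * (-c1) + e * c3
    have h6 : a * a * δ = e * e := by
      rw [c0]
      linear_combination (e * a) * h5 - e * e * c4
    field_simp
    linear_combination h6
  · have hBP : BP (-2 : F) 1 = (X ^ 2 + 1) ^ 2 := by
      rw [BP]
      simp only [map_neg, map_ofNat, map_one]
      ring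
    rw [hBP] at hdvd
    obtain ⟨d, hcd⟩ := hc.prime.dvd_of_dvd_pow hdvd
    have hne : (X ^ 2 + 1 : F[X]) ≠ 0 := by
      intro h0
      have := congrArg (fun p => p.coeff 2) h0
      simp [coeff_X, coeff_one] at this
    have hd0 : d ≠ 0 := by
      rintro rfl
      rw [mul_zero] at hcd
      exact hne hcd
    have h2 : c.natDegree + d.natDegree = 2 := by
      rw [← natDegree_mul hc.ne_zero hd0, ← hcd]
      compute_degree!
    have h3 : d.natDegree = 0 := by omega
    obtain ⟨k, rfl⟩ := natDegree_eq_zero.1 h3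
    have hk : k ≠ 0 := by rintro rfl; simp at hd0
    apply hc1
    have := congrArg (fun p => p.coeff 1) hcd
    simp only [coeff_mul_C, coeff_add, coeff_X_pow, coeff_one] at this
    simp at this
    exact this.resolve_right hk

theorem BQ.coprime_neg_one {τ δ : F} (h : BQ τ δ) : IsCoprime (X - C (-1)) (BP τ δ) := by
  rw [(irreducible_X_sub_C (-1 : F)).coprime_iff_not_dvd, dvd_iff_isRoot, IsRoot.def, BP_eval]
  intro h1
  apply h.one
  linear_combination h1

/-! ### The matrix -/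

/-- The companion matrix of `t⁴ - τ t² + δ`. -/
def cmx (τ δ : F) : Matrix (Fin 4) (Fin 4) F := !![0, 0, 0, -δ; 1, 0, 0, 0; 0, 1, 0, τ; 0, 0, 1, 0]

theorem cmx_sq (τ δ : F) : cmx τ δ * cmx τ δ =
    !![0, 0, -δ, 0; 0, 0, 0, -δ; 1, 0, τ, 0; 0, 1, 0, τ] := by
  ext i j
  fin_cases i <;> fin_cases j <;> simp [cmx, Matrix.mul_apply, Fin.sum_univ_four]

theorem cmx_four (τ δ : F) : cmx τ δ * cmx τ δ * (cmx τ δ * cmx τ δ) =
    τ • (cmx τ δ * cmx τ δ) - δ • (1 : Matrix (Fin 4) (Fin 4) F) := by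
  rw [cmx_sq]
  ext i j
  fin_cases i <;> fin_cases j <;> simp [Matrix.mul_apply, Fin.sum_univ_four] <;> ring

theorem det_cmx (τ δ : F) : (cmx τ δ).det = δ := by
  simp [cmx, Matrix.det_succ_row_zero, Fin.sum_univ_succ, Fin.succAbove]
  ring

/-- `cmx` in `GL_4`. -/
noncomputable def cmG {τ δ : F} (h : δ ≠ 0) : GL (Fin 4) F :=
  Matrix.GeneralLinearGroup.mkOfDetNeZero (cmx τ δ) (by rwa [det_cmx])

theorem aeval_BP {A : Type*} [Ring A] [Algebra F A] (x : A) (τ δ : F) :
    aeval x (BP τ δ) = x * x * (x * x) - τ • (x * x) + δ • (1 : A) := by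
  rw [BP]
  simp only [map_add, map_sub, map_mul, map_pow, aeval_X, aeval_C, Algebra.algebraMap_eq_smul_one,
    smul_mul_assoc, one_mul]
  congr 2
  · rw [pow_succ, pow_succ, pow_two]; simp only [mul_assoc]
  · rw [pow_two]

theorem aeval_cmG {τ δ : F} (h : δ ≠ 0) :
    aeval ((cmG (τ := τ) h : GL (Fin 4) F) : Matrix (Fin 4) (Fin 4) F) (BP τ δ) = 0 := by
  rw [aeval_BP]
  show cmx τ δ * cmx τ δ * (cmx τ δ * cmx τ δ) - τ • (cmx τ δ * cmx τ δ) + δ • 1 = 0
  rw [cmx_four]
  abel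

theorem aeval_ti_cmG {τ δ : F} (h : δ ≠ 0) :
    aeval (ti (cmG (τ := τ) h) : Matrix (Fin 4) (Fin 4) F) (BP (τ * δ⁻¹) δ⁻¹) = 0 := by
  rw [aeval_BP]
  set B := (ti (cmG (τ := τ) h) : Matrix (Fin 4) (Fin 4) F) with hB
  have h1 : B * (cmx τ δ)ᵀ = 1 := by
    have : (ti (cmG (τ := τ) h) : Matrix (Fin 4) (Fin 4) F) *
      (((ti (cmG (τ := τ) h))⁻¹ : GL (Fin 4) F) : Matrix (Fin 4) (Fin 4) F) = 1 := by
      rw [← Units.val_mul, mul_inv_cancel]; rfl
    exact this
  have h2 : (cmx τ δ)ᵀ * (cmx τ δ)ᵀ * ((cmx τ δ)ᵀ * (cmx τ δ)ᵀ) =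
      τ • ((cmx τ δ)ᵀ * (cmx τ δ)ᵀ) - δ • 1 := by
    have := congrArg transpose (cmx_four τ δ)
    simpa only [transpose_mul, transpose_sub, transpose_smul, transpose_one] using this
  set A := (cmx τ δ)ᵀ
  have h3 : B * B * (A * A) = 1 := by
    calc B * B * (A * A) = B * (B * A) * A := by simp only [mul_assoc]
      _ = 1 := by rw [h1, mul_one, h1]
  have h4 : B * B * (B * B) * (A * A * (A * A)) = 1 := by
    calc B * B * (B * B) * (A * A * (A * A)) = B * B * (B * B * (A * A)) * (A * A) := by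
          simp only [mul_assoc]
      _ = 1 := by rw [h3, mul_one, h3]
  rw [h2, mul_sub, mul_smul_comm, mul_smul_comm, mul_one, mul_assoc, h3, mul_one] at h4
  -- `τ B² - δ B⁴ = 1`
  have h5 : B * B * (B * B) = (τ * δ⁻¹) • (B * B) - δ⁻¹ • (1 : Matrix (Fin 4) (Fin 4) F) := by
    rw [← h4, smul_sub, smul_smul, smul_smul, inv_mul_cancel₀ h, one_smul, mul_comm τ]
    simp
  rw [h5]
  abel

/-- Output. -/
theorem out_cm [Finite F] (hF : 3 ≤ Nat.card F) {V : Type*} [AddCommGroup V] [Module F V]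
    [FiniteDimensional F V] (hV : Subsingleton V) {τ δ : F} (h : BQ τ δ) :
    Out 8 (lev (cmG (τ := τ) h.ne) (1 : V ≃ₗ[F] V)) := by
  have hsub : Subsingleton (Module.End F V) := ⟨fun a b => LinearMap.ext fun v => Subsingleton.elim _ _⟩
  have key : ∀ c : F[X], IsCoprime c (BP τ δ) → IsCoprime c (BP (τ * δ⁻¹) δ⁻¹) →
      Un ((lev (cmG (τ := τ) h.ne) (1 : V ≃ₗ[F] V) : M F V 4 ≃ₗ[F] M F V 4) :
        Module.End F (M F V 4)) c := by
    intro c h1 h2
    exact un_lev (Un.of_coprime_mat (aeval_cmG h.ne) h1) (isUnit_of_subsingleton _)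
      (Un.of_coprime_mat (aeval_ti_cmG h.ne) h2)
  have hi := h.inv
  refine ⟨fun c h1 h2 h3 h4 => ?_, fun _ => ?_, fun _ c h1 h2 h3 => ?_, fun _ β hβ => ?_⟩
  · exact key c (h.coprime_four h1 h2 h4) (hi.coprime_four h1 h2 h4)
  · obtain ⟨p, hp⟩ := exists_good F 3 (by norm_num) (by
      calc 5 ≤ 3 ^ 3 := by norm_num
        _ ≤ Nat.card F ^ 3 := Nat.pow_le_pow_left hF 3)
    obtain ⟨c, hc, hsq, -⟩ := exists_good_cubic_sq F hF p hp.irr hp.deg
    have hc0 : c.coeff 0 ≠ 0 := coeff_zero_ne hc.irr (by rw [hc.deg]; norm_num)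
    have hcr := irreducible_rev hc.irr hc0
    have hcd : c.reverse.natDegree = 3 := by rw [natDegree_rev hc0, hc.deg]
    exact ⟨c, hc, hsq, key c (h.coprime_three hc.irr hc.deg) (hi.coprime_three hc.irr hc.deg),
      key _ (h.coprime_three hcr hcd) (hi.coprime_three hcr hcd)⟩
  · exact key c (h.coprime_two h1 h2 h3) (hi.coprime_two h1 h2 h3)
  · rw [hβ.2.2 h.two]
    exact key _ h.coprime_neg_one hi.coprime_neg_one

theorem exists_BQ [Finite F] (h2 : (2 : F) ≠ 0) (s : Fˣ) :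
    ∃ (τ δ : F) (h : BQ τ δ) (a : Fˣ), (s : F) = δ * (a * a) := by
  by_cases hs : IsSquare (s : F)
  · obtain ⟨r, hr⟩ := hs
    have hr0 : r ≠ 0 := by rintro rfl; rw [mul_zero] at hr; exact s.ne_zero hr
    refine ⟨-2, 1, ⟨h2, one_ne_zero, Or.inr ⟨rfl, rfl⟩, ?_⟩, Units.mk0 r hr0, by rw [hr]; simp⟩
    have : (1 : F) - -2 + 1 = 2 * 2 := by ring
    rw [this]
    exact mul_ne_zero h2 h2
  · by_cases h1 : 1 + (s : F) = 0
    · refine ⟨1, s, ⟨h2, s.ne_zero, Or.inl hs, ?_⟩, 1, by simp⟩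
      have : (1 : F) - 1 + s = s := by ring
      rw [this]
      exact s.ne_zero
    · exact ⟨0, s, ⟨h2, s.ne_zero, Or.inl hs, by rwa [sub_zero]⟩, 1, by simp⟩

/-- The matrix `diag(1, -1, 1, -1)`. -/
def kmx : GL (Fin 4) F where
  val := diagonal ![1, -1, 1, -1]
  inv := diagonal ![1, -1, 1, -1]
  val_inv := by
    rw [diagonal_mul_diagonal, ← diagonal_one]
    congr 1
    ext i
    fin_cases i <;> simp
  inv_val := by
    rw [diagonal_mul_diagonal, ← diagonal_one]
    congr 1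
    ext i
    fin_cases i <;> simp

theorem neg_eight [Finite F] (hF : 3 ≤ Nat.card F) (h2 : (2 : F) ≠ 0) {V : Type v}
    [AddCommGroup V] [Module F V] [FiniteDimensional F V] {Q : QuadraticForm F V} (hQ : Nondeg Q)
    (hd : Module.finrank F V = 8) {g : V ≃ₗ[F] V} (hg : ∀ v, g v = - v)
    (hI : ∃ w w' : Fin 4 → V, Frame Q w w') (s : Fˣ) : Sol Q g s (Out 8) := by
  obtain ⟨w, w', hf⟩ := hI
  have he : ∀ v, MQ 4 (res Q w w') (hf.toModel v) = Q v := hf.MQ_toModel
  have hV1 : Module.finrank F (perp Q w w') = 0 := by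
    have := hf.finrank_perp; omega
  have hsub : Subsingleton (perp Q w w') := Module.finrank_zero_iff.1 hV1
  have hQ1 := hf.nondeg_res hQ
  have hG : Good (MQ 4 (res Q w w')) := by
    apply good_of_finite (nondeg_MQ hQ1)
    rw [← hf.toModel.finrank_eq, hd]; omega
  refine Sol.of_autE he (R' := Out 8) ?_ (fun y h => h.of_autE)
  obtain ⟨τ, δ, hB, a, ha⟩ := exists_BQ h2 s
  have hKY : (kmx : GL (Fin 4) F) * cmG (τ := τ) hB.ne = -1 * cmG (τ := τ) hB.ne * kmx := by
    apply Units.ext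
    rw [Units.val_mul, Units.val_mul, Units.val_mul]
    show diagonal ![1, -1, 1, -1] * cmx τ δ = -1 * cmx τ δ * diagonal ![1, -1, 1, -1]
    rw [neg_mul, one_mul]
    ext i j
    rw [diagonal_mul, mul_diagonal]
    fin_cases i <;> fin_cases j <;> simp [cmx]
  have hKd : ((kmx : GL (Fin 4) F) : Matrix (Fin 4) (Fin 4) F).det = 1 := by
    show (diagonal ![(1 : F), -1, 1, -1]).det = 1
    rw [det_diagonal, Fin.prod_univ_four]
    simp
  have hYd : ((cmG (τ := τ) hB.ne : GL (Fin 4) F) : Matrix (Fin 4) (Fin 4) F).det =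
      ((Units.mk0 δ hB.ne : Fˣ) : F) := det_cmx τ δ
  refine ⟨lev kmx 1, lev_det_one_mem hG hKd, lev (cmG (τ := τ) hB.ne) 1, ?_, ?_, out_cm hF hsub hB⟩
  · have h3 := (lev_cl (V := perp Q w w') hG (by norm_num) hYd).sq hG (t := a)
    convert h3 using 1
    apply Units.ext
    simp [ha]
  · rw [← lev_inv, ← lev_inv, ← lev_mul, ← lev_mul, ← lev_mul, hKY]
    have e1 : (-1 : GL (Fin 4) F) * cmG (τ := τ) hB.ne * kmx * kmx⁻¹ * (cmG (τ := τ) hB.ne)⁻¹ = -1 := by
      group
    rw [e1]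
    apply LinearEquiv.ext
    intro x
    rw [autE_apply, hg, map_neg, LinearEquiv.apply_symm_apply, lev_apply]
    have hti : (ti (-1 : GL (Fin 4) F) : Matrix (Fin 4) (Fin 4) F) = -1 := by
      have : (-1 : GL (Fin 4) F)⁻¹ = -1 := by
        rw [inv_eq_iff_mul_eq_one, neg_mul_neg, one_mul]
      rw [ti_coe, this]
      show (-1 : Matrix (Fin 4) (Fin 4) F)ᵀ = -1
      rw [transpose_neg, transpose_one]
    rw [hti]
    refine Prod.ext ?_ (Prod.ext (Subsingleton.elim _ _) ?_)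
    · show - x.1 = (-1 : Matrix (Fin 4) (Fin 4) F) *ᵥ x.1
      rw [neg_mulVec, one_mulVec]
    · show - x.2.2 = (-1 : Matrix (Fin 4) (Fin 4) F) *ᵥ x.2.2
      rw [neg_mulVec, one_mulVec]

end Cfsg.Agent.H140.OreO
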