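import Mathlib
import Cfsg.Agent.H140.OreO.NegEight
import Cfsg.Agent.H141.Red43

/-!
# Even dimension
-/

set_option autoImplicit false
set_option linter.unusedSectionVars false
set_option linter.unusedSimpArgs false
set_option linter.unusedVariables false

namespace Cfsg.Agent.H140.OreO

open Polynomial Matrix QuadraticMap Cfsg.Agent.LieClassical.OrthCore
  Cfsg.Agent.LieClassical.OrthTrans Cfsg.Agent.LieClassical.OrthFinite
open scoped commutatorElement

universe u v

variable {F : Type u} [Field F]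

theorem neg_mem_of {V : Type*} [AddCommGroup V] [Module F V] {Q : QuadraticForm F V}
    {g : V ≃ₗ[F] V} (hg : g ∈ Om Q) (h : ∀ v, g v = - v) :
    (LinearEquiv.neg F : V ≃ₗ[F] V) ∈ Om Q := by
  have : g = LinearEquiv.neg F := LinearEquiv.ext fun v => by rw [h]; rfl
  rwa [this] at hg

/-- `N = 8`, modulo the existence of frames of length four. -/
theorem TT_eight_of [Finite F] (hF : 3 ≤ Nat.card F)
    (hfour : (2 : F) ≠ 0 → ∀ (V : Type v) [AddCommGroup V] [Module F V] [FiniteDimensional F V]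
      (Q : QuadraticForm F V), Nondeg Q → Module.finrank F V = 8 →
      (LinearEquiv.neg F : V ≃ₗ[F] V) ∈ Om Q → ∃ w w' : Fin 4 → V, Frame Q w w') :
    TT.{u, v} F 8 := by
  intro V _ _ _ Q hQ hd g hg s
  by_cases h : ∃ c : F, ∀ v, g v = c • v
  · obtain ⟨c, hc⟩ := h
    have hcc := scalar_sq hQ (by omega) (Om_le hg) hc
    have hone : c = 1 → Sol Q g s (Out 8) := by
      rintro rfl
      have : g = 1 := by
        apply LinearEquiv.ext
        intro v
        rw [hc, one_smul]; rfl
      refine base_T hF (by norm_num) hQ hd (Om_le hg) ?_ s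
      rw [this]
      exact bc3_one hQ (by omega)
    by_cases h2 : (2 : F) = 0
    · apply hone
      have : (c - 1) * (c - 1) = 0 := by linear_combination hcc + (1 - c) * h2
      exact sub_eq_zero.1 (mul_self_eq_zero.1 this)
    · rcases mul_self_eq_one_iff.1 hcc with h1 | h1
      · exact hone h1
      · have hg' : ∀ v, g v = - v := fun v => by rw [hc, h1, neg_smul, one_smul]
        exact neg_eight hF h2 hQ hd hg' (hfour h2 V Q hQ hd (neg_mem_of hg hg')) s
  · refine base_T hF (by norm_num) hQ hd (Om_le hg) ?_ s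
    push Not at h
    obtain ⟨m, h1, h2, h3, hB⟩ := H434.Corn.exists_baseCorner hQ (by omega) hg h
    obtain rfl | rfl : m = 3 ∨ m = 4 := by omega
    · obtain ⟨w, w', hf, hS, hdet, hA⟩ := hB
      exact ⟨w, w', hf, hS, hdet, hA.imp id fun h => h.2⟩
    · exact H141.Red43.baseCorner_three hd (Om_le hg) hB

/-- Output for elements of order four. -/
theorem out_four [Finite F] (hF : 3 ≤ Nat.card F) (h2 : (2 : F) ≠ 0) {V : Type*} [AddCommGroup V]
    [Module F V] [FiniteDimensional F V] {y : V ≃ₗ[F] V} (hy : y * y * (y * y) = 1) {N : ℕ}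
    (hN : 9 ≤ N) : Out N y := by
  have hP : aeval (y : Module.End F V) ((X - C 1) * (X - C (-1)) * (X ^ 2 + 1) : F[X]) = 0 := by
    have e1 : ((X - C 1) * (X - C (-1)) * (X ^ 2 + 1) : F[X]) = X ^ 4 - 1 := by
      simp only [map_one, map_neg]; ring
    rw [e1]
    apply LinearMap.ext
    intro v
    simp only [map_sub, map_pow, aeval_X, map_one, LinearMap.sub_apply, LinearMap.zero_apply,
      Module.End.one_apply]
    have h1 : ((y : Module.End F V) ^ 4) v = v := by
      have := LinearEquiv.congr_fun hy v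
      rw [pow_succ, pow_succ, pow_succ, pow_one]
      exact this
    rw [h1, sub_self]
  have hq : (X ^ 2 + 1 : F[X]) ≠ 0 := by
    intro h0
    have := congrArg (fun p => p.coeff 2) h0
    simp [coeff_X, coeff_one] at this
  have hqd : (X ^ 2 + 1 : F[X]).natDegree = 2 := by compute_degree!
  have key : ∀ c : F[X], Irreducible c → 2 ≤ c.natDegree → IsCoprime c (X ^ 2 + 1) →
      Un (y : Module.End F V) c := by
    intro c h1 h2 h3
    refine un_of_coprime hP (IsCoprime.mul_right (IsCoprime.mul_right ?_ ?_) h3)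
    · exact coprime_of_deg h1 (X_sub_C_ne_zero 1) (by rw [natDegree_X_sub_C]; omega)
    · exact coprime_of_deg h1 (X_sub_C_ne_zero (-1)) (by rw [natDegree_X_sub_C]; omega)
  refine ⟨fun c h1 h2 h3 h4 => ?_, fun _ => ?_, fun _ c h1 h2 h3 => ?_, fun h => by omega⟩
  · exact key c h1 (by omega) (coprime_of_deg h1 hq (by omega))
  · obtain ⟨p, hp⟩ := exists_good F 3 (by norm_num) (by
      calc 5 ≤ 3 ^ 3 := by norm_num
        _ ≤ Nat.card F ^ 3 := Nat.pow_le_pow_left hF 3)
    obtain ⟨c, hc, hsq, -⟩ := exists_good_cubic_sq F hF p hp.irr hp.deg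
    have hc0 : c.coeff 0 ≠ 0 := coeff_zero_ne hc.irr (by rw [hc.deg]; norm_num)
    have hcr := irreducible_rev hc.irr hc0
    have hcd : c.reverse.natDegree = 3 := by rw [natDegree_rev hc0, hc.deg]
    have hd := hc.deg
    exact ⟨c, hc, hsq, key c hc.irr (by omega) (coprime_of_deg hc.irr hq (by omega)),
      key _ hcr (by omega) (coprime_of_deg hcr hq (by omega))⟩
  · refine key c h1 (by omega) ?_
    rw [h1.coprime_iff_not_dvd]
    rintro ⟨d, hcd⟩
    have hd0 : d ≠ 0 := by
      rintro rfl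
      rw [mul_zero] at hcd
      exact hq hcd
    have h5 : c.natDegree + d.natDegree = 2 := by
      rw [← natDegree_mul h1.ne_zero hd0, ← hcd, hqd]
    obtain ⟨k, rfl⟩ := natDegree_eq_zero.1 (show d.natDegree = 0 by omega)
    have hk : k ≠ 0 := by rintro rfl; simp at hd0
    apply h3
    have := congrArg (fun p => p.coeff 1) hcd
    simp only [coeff_mul_C, coeff_add, coeff_X_pow, coeff_one] at this
    simp at this
    exact this.resolve_right hk

/-- `N = 10`, modulo `-1`. -/
theorem TT_ten_of [Finite F] (hF : 3 ≤ Nat.card F) (h8 : TT.{u, v} F 8)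
    (hten : (2 : F) ≠ 0 → ∀ (V : Type v) [AddCommGroup V] [Module F V] [FiniteDimensional F V]
      (Q : QuadraticForm F V), Nondeg Q → Module.finrank F V = 10 →
      (LinearEquiv.neg F : V ≃ₗ[F] V) ∈ Om Q → ∀ s : Fˣ, ∃ k ∈ Om Q, ∃ y, Cl Q s y ∧
        (LinearEquiv.neg F : V ≃ₗ[F] V) = k * y * k⁻¹ * y⁻¹ ∧ y * y * (y * y) = 1) :
    TT.{u, v} F 10 := by
  intro V _ _ _ Q hQ hd g hg s
  by_cases h : (2 : F) ≠ 0 ∧ ∀ v, g v = - v
  · obtain ⟨h2, hg'⟩ := h
    obtain ⟨k, hk, y, hy, e, h4⟩ := hten h2 V Q hQ hd (neg_mem_of hg hg') s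
    refine ⟨k, hk, y, hy, ?_, out_four hF h2 h4 (by norm_num)⟩
    rw [← e]
    exact LinearEquiv.ext fun v => by rw [hg']; rfl
  · refine step_one hF (by norm_num) le_rfl h8 hQ hd hg ?_ s
    refine H958.Ore.idFrame hQ (Om_le hg) (by omega) (by omega) fun h2 => rank_pos ?_
    by_contra hcon
    push Not at hcon
    exact h ⟨h2, hcon⟩

/-- **Even dimension.** -/
theorem TT_even_of [Finite F] (hF : 3 ≤ Nat.card F) (h8 : TT.{u, v} F 8) (h10 : TT.{u, v} F 10)
    (N : ℕ) (hN : 8 ≤ N) (heven : N % 2 = 0) : TT.{u, v} F N := by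
  induction N using Nat.strong_induction_on with
  | _ N ih =>
    rcases Nat.lt_or_ge N 11 with h | h
    · obtain rfl | rfl : N = 8 ∨ N = 10 := by omega
      · exact h8
      · exact h10
    · exact TT_big hF h fun N' h1 h2 h3 => ih N' h1 (by omega) (by omega)

/-- Conclusion. -/
theorem all_comm_of_TT [Finite F] {N : ℕ} (h : TT.{u, v} F N) {V : Type v} [AddCommGroup V]
    [Module F V] [FiniteDimensional F V] {Q : QuadraticForm F V} (hQ : Nondeg Q)
    (hN : 5 ≤ N) (hd : Module.finrank F V = N) (g : V ≃ₗ[F] V) (hg : g ∈ Om Q) :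
    ∃ k ∈ Om Q, ∃ y ∈ Om Q, g = k * y * k⁻¹ * y⁻¹ := by
  obtain ⟨k, hk, y, hy, e, -⟩ := h V Q hQ hd g hg 1
  exact ⟨k, hk, y, hy.mem_Om (good_of_finite hQ (by omega)), e⟩

/-- **Every element of `Ω` is a commutator**, odd dimension `≥ 7`, odd characteristic. -/
theorem all_comm_odd [Finite F] (h2 : (2 : F) ≠ 0) {V : Type v} [AddCommGroup V]
    [Module F V] [FiniteDimensional F V] {Q : QuadraticForm F V} (hQ : Nondeg Q)
    (hN : 7 ≤ Module.finrank F V) (hodd : Module.finrank F V % 2 = 1) (g : V ≃ₗ[F] V)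
    (hg : g ∈ Om Q) : ∃ k ∈ Om Q, ∃ y ∈ Om Q, g = k * y * k⁻¹ * y⁻¹ := by
  have hF : 3 ≤ Nat.card F := by
    by_contra hcon
    have h1 : 1 < Nat.card F := Finite.one_lt_card
    have h3 : Nat.card F = 2 := by omega
    have := Fintype.ofFinite F
    apply h2
    have h4 : ((Fintype.card F : ℕ) : F) = 0 := FiniteField.cast_card_eq_zero F
    rw [← Nat.card_eq_fintype_card, h3] at h4
    exact_mod_cast h4
  exact all_comm_of_TT (TT_odd hF h2 _ hN hodd) hQ (by omega) rfl g hg

end Cfsg.Agent.H140.OreO
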