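import Mathlib
import Cfsg.Agent.H140.OreO.Even
import Cfsg.Agent.H434.FrameFour
import Cfsg.Agent.H194.OreTwo
import Cfsg.Agent.H141.NegTen

/-!
# Every element of `Ω(V)` is a commutator: even dimension
-/

set_option autoImplicit false
set_option linter.unusedSectionVars false
set_option linter.unusedVariables false

namespace Cfsg.Agent.H140.OreO

open Polynomial Matrix QuadraticMap Cfsg.Agent.LieClassical.OrthCore
  Cfsg.Agent.LieClassical.OrthTrans Cfsg.Agent.LieClassical.OrthFinite
open scoped commutatorElement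

universe u v

variable {F : Type u} [Field F]

theorem TT_eight [Finite F] (hF : 3 ≤ Nat.card F) : TT.{u, v} F 8 :=
  TT_eight_of hF fun h2 V _ _ _ Q hQ hd h => H434.FrameFour.exists_frame_four h2 hQ hd h

theorem TT_ten [Finite F] (hF : 3 ≤ Nat.card F) : TT.{u, v} F 10 :=
  TT_ten_of hF (TT_eight hF) fun h2 V _ _ _ Q hQ hd h s => H141.NegTen.neg_ten h2 hQ hd h s

theorem TT_even [Finite F] (hF : 3 ≤ Nat.card F) (N : ℕ) (hN : 8 ≤ N) (heven : N % 2 = 0) :
    TT.{u, v} F N := TT_even_of hF (TT_eight hF) (TT_ten hF) N hN heven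

/-- **Every element of `Ω` is a commutator**, even dimension `≥ 8`. -/
theorem all_comm_even [Finite F] {V : Type v} [AddCommGroup V]
    [Module F V] [FiniteDimensional F V] {Q : QuadraticForm F V} (hQ : Nondeg Q)
    (hN : 8 ≤ Module.finrank F V) (heven : Module.finrank F V % 2 = 0) (g : V ≃ₗ[F] V)
    (hg : g ∈ Om Q) : ∃ k ∈ Om Q, ∃ y ∈ Om Q, g = k * y * k⁻¹ * y⁻¹ := by
  rcases Nat.lt_or_ge (Nat.card F) 3 with h | h
  · have h1 : 1 < Nat.card F := Finite.one_lt_card
    exact H194.OreTwo.ore_two (by omega) hQ hN g hg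
  · exact all_comm_of_TT (TT_even h _ hN heven) hQ (by omega) rfl g hg

end Cfsg.Agent.H140.OreO
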